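import Cfsg.Agent.Lib.Char.Induction
import Cfsg.Agent.Lib.Char.Linear
import Cfsg.Prelude.Def_Blocks
import Mathlib.RingTheory.RootsOfUnity.Complex
import Mathlib.GroupTheory.SpecificGroups.Cyclic

/-!
# The irreducible character of degree `p + 1`

`E = ⟨x⟩` is cyclic of odd order `e`, its normaliser `N` has order `2 e`, inverts it outside `E` and
controls the fusion of its non-identity elements; `p ≡ 1 (mod e)` and there is only one irreducible
character `ζ` of degree `p`. The functions `Ind (1 - λ)` have norm three, so all of them contain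
`ζ` with coefficient one and `ζ - Ind (1 - λ) + 1` is irreducible.

* `Frob`: the hypotheses.
* `Frob.exists_character`: the character and its values on `E`.
-/

set_option autoImplicit false
set_option linter.style.haveILetI false
set_option linter.unusedSectionVars false

namespace Cfsg.Agent.UniqueDegree

open Cfsg.Agent.Char
open scoped ComplexConjugate Classical

universe u

/-- The hypotheses. -/
structure Frob (G : Type u) [Group G] (p : ℕ) where
  E : Subgroup G
  x : G
  e : ℕ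
  hx : Subgroup.zpowers x = E
  he : orderOf x = e
  h3 : 3 ≤ e
  hodd : Odd e
  hN : Nat.card (Subgroup.normalizer (E : Set G)) = 2 * e
  hinv : ∀ g ∈ Subgroup.normalizer (E : Set G), g ∉ E → ∀ z ∈ E, g⁻¹ * z * g = z⁻¹
  hfus : ∀ z ∈ E, z ≠ 1 → ∀ g : G, g⁻¹ * z * g ∈ E → g ∈ Subgroup.normalizer (E : Set G)
  hp : p.Prime
  d : ℕ
  hd : p = d * e + 1
  huniq : ∃! χ : Cfsg.IrrCharacter G, Cfsg.charDegree (χ : G → ℂ) = p

theorem charDegree_eq_degree {G : Type u} [Group G] [Finite G] (χ : IrrCharacter G) :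
    charDegree (χ : G → ℂ) = degree χ := by
  rw [charDegree, apply_one_eq_degree, Complex.natCast_re, Nat.floor_natCast]

/-- A single entry `± 1`. -/
theorem split_one {ι : Type*} [DecidableEq ι] (s : Finset ι) (a : ι → ℤ) (h : ∑ i ∈ s, a i ^ 2 = 1) :
    ∃ i ∈ s, (a i = 1 ∨ a i = -1) ∧ ∀ j ∈ s, j ≠ i → a j = 0 := by
  obtain ⟨i, hi, hne⟩ : ∃ i ∈ s, a i ≠ 0 := by
    by_contra hh
    push Not at hh
    rw [Finset.sum_eq_zero fun i hi => by rw [hh i hi, zero_pow two_ne_zero]] at h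
    exact zero_ne_one h
  have h1 := Finset.add_sum_erase s (fun j => a j ^ 2) hi
  rw [h] at h1
  have hpos : (1 : ℤ) ≤ a i ^ 2 := by
    rcases lt_or_gt_of_ne hne with h2 | h2 <;> nlinarith
  have hrest : 0 ≤ ∑ j ∈ s.erase i, a j ^ 2 := Finset.sum_nonneg fun j _ => sq_nonneg _
  refine ⟨i, hi, sq_eq_one_iff.1 (by linarith), fun j hj hji => ?_⟩
  have h0 : ∑ j ∈ s.erase i, a j ^ 2 = 0 := by linarith
  exact pow_eq_zero_iff two_ne_zero |>.1
    ((Finset.sum_eq_zero_iff_of_nonneg fun j _ => sq_nonneg _).1 h0 j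
      (Finset.mem_erase.2 ⟨hji, hj⟩))

namespace Frob

variable {G : Type u} [Group G] [Fintype G] {p : ℕ} (F : Frob G p)

theorem x_mem : F.x ∈ F.E := F.hx ▸ Subgroup.mem_zpowers F.x

theorem card_E : Nat.card F.E = F.e := by
  have h := Nat.card_zpowers F.x
  rw [F.hx, F.he] at h
  exact h

theorem exists_pow {z : G} (hz : z ∈ F.E) : ∃ i : ℕ, z = F.x ^ i := by
  obtain ⟨i, hi⟩ := mem_powers_iff_mem_zpowers.2 (F.hx.symm ▸ hz : z ∈ Subgroup.zpowers F.x)
  exact ⟨i, hi.symm⟩

theorem gen_apply (z : F.E) : ∃ i : ℕ, z = ⟨F.x, F.x_mem⟩ ^ i := by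
  obtain ⟨i, hi⟩ := F.exists_pow z.2
  exact ⟨i, Subtype.ext (by simpa using hi)⟩

/-- A faithful linear character of `E`. -/
noncomputable def L : F.E →* ℂ :=
  (Units.coeHom ℂ).comp (monoidHomOfForallMemZpowers (g := (⟨F.x, F.x_mem⟩ : F.E))
    (g' := (Complex.isPrimitiveRoot_exp F.e (by have := F.h3; omega)).isUnit
      (by have := F.h3; omega) |>.unit)
    (fun z => by
      obtain ⟨i, hi⟩ := F.gen_apply z
      exact hi ▸ Subgroup.npow_mem_zpowers _ i)
    (by
      rw [Subgroup.orderOf_mk, F.he]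
      refine orderOf_dvd_of_pow_eq_one (Units.ext ?_)
      simpa using (Complex.isPrimitiveRoot_exp F.e (by have := F.h3; omega)).pow_eq_one))

theorem L_gen : IsPrimitiveRoot (F.L ⟨F.x, F.x_mem⟩) F.e := by
  rw [L, MonoidHom.comp_apply, monoidHomOfForallMemZpowers_apply_gen, Units.coeHom_apply,
    IsUnit.unit_spec]
  exact Complex.isPrimitiveRoot_exp F.e (by have := F.h3; omega)

theorem pow_e (z : F.E) : z ^ F.e = 1 := by
  have := pow_card_eq_one' (x := z)
  rwa [F.card_E] at this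

theorem L_pow_e (z : F.E) : F.L z ^ F.e = 1 := by rw [← map_pow, F.pow_e, map_one]

/-- Orthogonality. -/
theorem sum_L_pow (k : ℕ) :
    ∑ z : F.E, F.L z ^ k = if F.e ∣ k then (F.e : ℂ) else 0 := by
  split_ifs with h
  · obtain ⟨c, rfl⟩ := h
    simp only [pow_mul, F.L_pow_e, one_pow, Finset.sum_const, Finset.card_univ, nsmul_eq_mul,
      mul_one, ← Nat.card_eq_fintype_card, F.card_E]
  · set z₀ : F.E := ⟨F.x, F.x_mem⟩
    have hne : F.L z₀ ^ k ≠ 1 := fun hh => h (F.L_gen.dvd_of_pow_eq_one k hh)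
    have key : F.L z₀ ^ k * ∑ z : F.E, F.L z ^ k = ∑ z : F.E, F.L z ^ k := by
      rw [Finset.mul_sum]
      exact Fintype.sum_equiv (Equiv.mulLeft z₀) _ _ fun z => by simp [mul_pow]
    exact (mul_eq_zero.1 (show (F.L z₀ ^ k - 1) * ∑ z : F.E, F.L z ^ k = 0 by
      rw [sub_mul, key, one_mul, sub_self])).resolve_left (sub_ne_zero.2 hne)

theorem L_inv (z : F.E) {j : ℕ} (hj : j ≤ F.e) : F.L z⁻¹ ^ j = F.L z ^ (F.e - j) := by
  have hmul : F.L z * F.L z⁻¹ = 1 := by rw [← map_mul, mul_inv_cancel, map_one]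
  calc F.L z⁻¹ ^ j = (F.L z ^ (F.e - j) * F.L z ^ j) * F.L z⁻¹ ^ j := by
        rw [← pow_add, Nat.sub_add_cancel hj, F.L_pow_e, one_mul]
    _ = F.L z ^ (F.e - j) := by rw [mul_assoc, ← mul_pow, hmul, one_pow, mul_one]

theorem conj_L (z : F.E) : conj (F.L z) = F.L z⁻¹ := by
  have h1 := normSq_linear F.L z
  have h2 : F.L z * F.L z⁻¹ = 1 := by rw [← map_mul, mul_inv_cancel, map_one]
  have h0 : F.L z ≠ 0 := fun h => by rw [h, zero_mul] at h2; exact zero_ne_one h2
  exact mul_left_cancel₀ h0 (h1.trans h2.symm)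

/-- `1 - L ^ j`. -/
noncomputable def θ (j : ℕ) : F.E → ℂ := fun z => 1 - F.L z ^ j

/-- `Ind (1 - L ^ j)`. -/
noncomputable def φ (j : ℕ) : G → ℂ := indFun F.E (F.θ j)

theorem φ_generalized (j : ℕ) : IsGeneralizedCharacter G (F.φ j) := by
  refine isGeneralizedCharacter_indFun F.E ?_
  have : F.θ j = (fun _ => (1 : ℂ)) - ⇑(F.L ^ j) := by funext z; simp [θ]
  rw [this]
  exact IsGeneralizedCharacter.sub
    (IsCharacter.isGeneralized (IsIrrCharacter.isCharacter (isIrrCharacter_of_monoidHom (1 : F.E →* ℂ))))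
    (IsCharacter.isGeneralized (IsIrrCharacter.isCharacter (isIrrCharacter_of_monoidHom (F.L ^ j))))

theorem φ_one (j : ℕ) : F.φ j 1 = 0 := by simp [φ, indFun_apply_one, θ]

theorem exists_u : ∃ u ∈ Subgroup.normalizer (F.E : Set G), u ∉ F.E := by
  by_contra h
  push Not at h
  have := Subgroup.card_le_of_le (H := Subgroup.normalizer (F.E : Set G)) (K := F.E) h
  rw [F.hN, F.card_E] at this
  have := F.h3
  omega

/-- Values on `E`. -/
theorem φ_apply {j : ℕ} (hj : j ≤ F.e) (z : F.E) :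
    F.φ j z = 2 - F.L z ^ j - F.L z ^ (F.e - j) := by
  classical
  by_cases hz1 : z = 1
  · subst hz1
    rw [Subgroup.coe_one, F.φ_one, map_one, one_pow, one_pow]
    ring
  have hz1' : (z : G) ≠ 1 := fun h => hz1 (Subtype.ext h)
  set N := Subgroup.normalizer (F.E : Set G)
  have hEN : F.E ≤ N := Subgroup.le_normalizer
  have hterm : ∀ g : G, extendByZero F.E (F.θ j) (g⁻¹ * z * g) =
      (if g ∈ F.E then F.θ j z else 0) + (if g ∈ N ∧ g ∉ F.E then F.θ j z⁻¹ else 0) := by
    intro g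
    by_cases hg : g ∈ F.E
    · rw [if_pos hg, if_neg (fun h => h.2 hg), add_zero]
      obtain ⟨a, ha⟩ := F.exists_pow hg
      obtain ⟨b, hb⟩ := F.exists_pow z.2
      have : g⁻¹ * (z : G) * g = z := by
        rw [ha, hb, mul_assoc, ((Commute.refl F.x).pow_pow b a).eq, inv_mul_cancel_left]
      rw [this, extendByZero_coe]
    · by_cases hgN : g ∈ N
      · rw [if_neg hg, if_pos ⟨hgN, hg⟩, zero_add, F.hinv g hgN hg z z.2]
        exact extendByZero_coe F.E (F.θ j) z⁻¹
      · rw [if_neg hg, if_neg (fun h => hgN h.1), add_zero]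
        exact extendByZero_of_notMem _ _ fun h => hgN (F.hfus z z.2 hz1' g h)
  have hc1 : (Finset.univ.filter fun g : G => g ∈ F.E).card = F.e := by
    rw [← Fintype.card_subtype, ← Nat.card_eq_fintype_card, ← F.card_E]
  have hc2 : (Finset.univ.filter fun g : G => g ∈ N ∧ g ∉ F.E).card = F.e := by
    have h := Finset.card_filter_add_card_filter_not (s := Finset.univ.filter fun g : G => g ∈ N)
      (fun g => g ∈ F.E)
    rw [Finset.filter_filter, Finset.filter_filter] at h
    have hN' : (Finset.univ.filter fun g : G => g ∈ N).card = 2 * F.e := by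
      rw [← Fintype.card_subtype, ← Nat.card_eq_fintype_card, ← F.hN]
    have : (Finset.univ.filter fun g : G => g ∈ N ∧ g ∈ F.E) = Finset.univ.filter fun g : G => g ∈ F.E :=
      Finset.filter_congr fun g _ => ⟨And.right, fun h => ⟨hEN h, h⟩⟩
    rw [this, hc1, hN'] at h
    omega
  simp only [φ, indFun]
  rw [Finset.sum_congr rfl fun g _ => hterm g, Finset.sum_add_distrib, ← Finset.sum_filter,
    ← Finset.sum_filter, Finset.sum_const, Finset.sum_const, hc1, hc2, F.card_E, nsmul_eq_mul,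
    nsmul_eq_mul, ← mul_add, ← mul_assoc,
    inv_mul_cancel₀ (Nat.cast_ne_zero.2 (by have := F.h3; omega)), one_mul]
  simp only [θ, F.L_inv z hj]
  ring

theorem conj_φ_apply {j : ℕ} (hj : j ≤ F.e) (z : F.E) :
    conj (F.φ j z) = 2 - F.L z ^ j - F.L z ^ (F.e - j) := by
  rw [F.φ_apply hj, map_sub, map_sub, map_ofNat, map_pow, map_pow, F.conj_L, F.L_inv z hj,
    F.L_inv z (Nat.sub_le _ _), Nat.sub_sub_self hj]
  ring

/-- Conjugation by an element inverting `E`. -/
theorem indFun_comp_inv (θ' : F.E → ℂ) :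
    indFun F.E (fun z => θ' z⁻¹) = indFun F.E θ' := by
  classical
  obtain ⟨u, huN, huE⟩ := F.exists_u
  funext g
  simp only [indFun]
  congr 1
  refine Fintype.sum_equiv (Equiv.mulRight u) _ _ fun a => ?_
  rw [Equiv.coe_mulRight, show (a * u)⁻¹ * g * (a * u) = u⁻¹ * (a⁻¹ * g * a) * u by group]
  set w := a⁻¹ * g * a
  by_cases hw : w ∈ F.E
  · rw [extendByZero_of_mem _ _ hw, F.hinv u huN huE w hw,
      extendByZero_of_mem _ _ (F.E.inv_mem hw)]
    rfl
  · rw [extendByZero_of_notMem _ _ hw, extendByZero_of_notMem]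
    intro h
    refine hw ?_
    have := (Subgroup.mem_normalizer_iff.1 huN (u⁻¹ * w * u)).1 h
    simpa [mul_assoc] using this

theorem φ_symm {j : ℕ} (hj : j ≤ F.e) : F.φ (F.e - j) = F.φ j := by
  rw [φ, φ, ← F.indFun_comp_inv (F.θ j)]
  congr 1
  funext z
  simp only [θ]
  rw [F.L_inv z hj]

theorem conj_φ {j : ℕ} (hj : j ≤ F.e) (g : G) : conj (F.φ j g) = F.φ j g := by
  classical
  have : conj (F.φ j g) = indFun F.E (fun z => F.θ j z⁻¹) g := by
    simp only [φ, indFun, map_mul, map_inv₀, map_natCast, map_sum]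
    congr 1
    refine Finset.sum_congr rfl fun a _ => ?_
    by_cases hw : a⁻¹ * g * a ∈ F.E
    · rw [extendByZero_of_mem _ _ hw, extendByZero_of_mem _ _ hw]
      simp [θ, F.conj_L]
    · rw [extendByZero_of_notMem _ _ hw, extendByZero_of_notMem _ _ hw, map_zero]
  rw [this, F.indFun_comp_inv]
  rfl

/-- The inner products. -/
theorem inner_φ {i j : ℕ} (hi : 1 ≤ i) (hie : i < F.e) (hj : 1 ≤ j) (hje : j < F.e) :
    classInner (F.φ i) (F.φ j) = if i = j ∨ i + j = F.e then (3 : ℂ) else 2 := by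
  classical
  rw [show F.φ i = indFun F.E (F.θ i) from rfl,
    classInner_indFun F.E (F.θ i) (IsGeneralizedCharacter.isClassFunction (F.φ_generalized j)),
    classInner, F.card_E]
  have hexp : ∀ z : F.E, F.θ i z * conj (F.φ j z) =
      2 - F.L z ^ j - F.L z ^ (F.e - j) - 2 * F.L z ^ i + F.L z ^ (i + j) + F.L z ^ (i + (F.e - j)) := by
    intro z
    rw [F.conj_φ_apply hje.le, θ, pow_add, pow_add]
    ring
  rw [Finset.sum_congr rfl fun z _ => hexp z]
  simp only [Finset.sum_add_distrib, Finset.sum_sub_distrib, ← Finset.mul_sum, F.sum_L_pow,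
    Finset.sum_const, Finset.card_univ, ← Nat.card_eq_fintype_card, F.card_E, nsmul_eq_mul]
  have n1 : ¬ F.e ∣ j := fun h => by have := Nat.le_of_dvd hj h; omega
  have n2 : ¬ F.e ∣ F.e - j := fun h => by have := Nat.le_of_dvd (by omega) h; omega
  have n3 : ¬ F.e ∣ i := fun h => by have := Nat.le_of_dvd hi h; omega
  have n4 : F.e ∣ i + j ↔ i + j = F.e := ⟨fun ⟨c, hc⟩ => by
    rcases c with _ | _ | c
    · omega
    · simpa using hc
    · have : F.e * 2 ≤ F.e * (c + 1 + 1) := Nat.mul_le_mul_left _ (by omega)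
      omega, fun h => h ▸ dvd_rfl⟩
  have n5 : F.e ∣ i + (F.e - j) ↔ i = j := ⟨fun ⟨c, hc⟩ => by
    rcases c with _ | _ | c
    · omega
    · omega
    · have : F.e * 2 ≤ F.e * (c + 1 + 1) := Nat.mul_le_mul_left _ (by omega)
      omega, fun h => by rw [h, Nat.add_sub_cancel' hje.le]⟩
  simp only [if_neg n1, if_neg n2, if_neg n3, n4, n5]
  have he0 : (F.e : ℂ) ≠ 0 := Nat.cast_ne_zero.2 (by omega)
  have hboth : ¬ (i = j ∧ i + j = F.e) := fun h => by
    obtain ⟨m, hm⟩ := F.hodd
    omega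
  by_cases h1 : i = j <;> by_cases h2 : i + j = F.e
  · exact absurd ⟨h1, h2⟩ hboth
  · rw [if_neg h2, if_pos h1, if_pos (Or.inl h1)]; field_simp; ring
  · rw [if_pos h2, if_neg h1, if_pos (Or.inr h2)]; field_simp; ring
  · rw [if_neg h2, if_neg h1, if_neg (fun h => h.elim h1 h2)]; field_simp; ring

/-- The trivial character. -/
noncomputable def one (_ : Frob G p) : IrrCharacter G := linIrr 1

theorem one_apply (g : G) : F.one.1 g = 1 := by simp [one]

theorem inner_φ_one {j : ℕ} (hj : 1 ≤ j) (hje : j < F.e) : classInner (F.φ j) F.one.1 = 1 := by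
  rw [φ, classInner_indFun F.E _ (IsCharacter.isClassFunction (irr_isCharacter F.one)), classInner]
  simp only [θ, F.one_apply, map_one, mul_one, Finset.sum_sub_distrib, F.sum_L_pow, F.card_E,
    if_neg (fun h : F.e ∣ j => absurd (Nat.le_of_dvd hj h) (by omega)), sub_zero, Finset.sum_const,
    Finset.card_univ, ← Nat.card_eq_fintype_card, nsmul_eq_mul]
  exact inv_mul_cancel₀ (Nat.cast_ne_zero.2 (by omega))

/-- The coefficients of `Ind (1 - L ^ j)`. -/
theorem exists_coeff : ∃ a : ℕ → IrrCharacter G → ℤ, ∀ j, 1 ≤ j → j < F.e →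
    (∀ χ, classInner (F.φ j) χ.1 = a j χ) ∧ a j F.one = 1 ∧ ∑ χ, a j χ ^ 2 = 3 ∧
      (∑ χ, a j χ * (degree χ : ℤ)) = 0 ∧ F.φ j = ∑ χ, (a j χ : ℂ) • χ.1 := by
  choose a ha1 ha2 using fun j => IsGeneralizedCharacter.exists_decomp (F.φ_generalized j)
  refine ⟨a, fun j hj hje => ⟨ha2 j, ?_, ?_, ?_, ha1 j⟩⟩
  · have h := ha2 j F.one
    rw [F.inner_φ_one hj hje] at h
    exact_mod_cast h.symm
  · have h := IsGeneralizedCharacter.classInner_self_eq_sum (ha1 j)
    rw [F.inner_φ hj hje hj hje, if_pos (Or.inl rfl)] at h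
    exact_mod_cast h.symm
  · have h := congrFun (ha1 j) 1
    rw [F.φ_one, Finset.sum_apply] at h
    simp only [Pi.smul_apply, smul_eq_mul, apply_one_eq_degree] at h
    exact_mod_cast h.symm

/-- The sum of all `⟨Ind (1 - L ^ j), χ⟩`. -/
theorem sum_inner_φ (χ : IrrCharacter G) :
    ∑ j ∈ Finset.range F.e, classInner (F.φ j) χ.1 =
      F.e * classInner (fun _ : F.E => (1 : ℂ)) (fun z : F.E => χ.1 z) - degree χ := by
  classical
  have hS : ∀ z : F.E, ∑ j ∈ Finset.range F.e, F.L z ^ j = if z = 1 then (F.e : ℂ) else 0 := by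
    intro z
    split_ifs with h
    · simp [h]
    · obtain ⟨i, rfl⟩ := F.gen_apply z
      set w := F.L ((⟨F.x, F.x_mem⟩ : F.E) ^ i) with hw
      have hne : w ≠ 1 := fun hw1 => h (by
        rw [hw, map_pow] at hw1
        obtain ⟨c, rfl⟩ := F.L_gen.dvd_of_pow_eq_one i hw1
        rw [pow_mul, F.pow_e, one_pow])
      exact (mul_eq_zero.1 (show (w - 1) * ∑ j ∈ Finset.range F.e, w ^ j = 0 by
        rw [mul_geom_sum, F.L_pow_e, sub_self])).resolve_left (sub_ne_zero.2 hne)
  simp only [φ, classInner_indFun F.E _ (IsCharacter.isClassFunction (irr_isCharacter χ))]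
  simp only [classInner, θ, ← Finset.mul_sum, one_mul]
  rw [Finset.sum_comm]
  simp only [← Finset.sum_mul, Finset.sum_sub_distrib, Finset.sum_const, Finset.card_range,
    nsmul_eq_mul, mul_one, hS, sub_mul, ite_mul, zero_mul, Finset.sum_ite_eq', Finset.mem_univ,
    if_true, ← Finset.mul_sum, mul_sub]
  rw [F.card_E, Subgroup.coe_one, apply_one_eq_degree, map_natCast]
  have he0 : (F.e : ℂ) ≠ 0 := Nat.cast_ne_zero.2 (by have := F.h3; omega)
  field_simp

/-- All coefficients of `ζ` are `1`. -/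
theorem coeff_eq_one {ζ : IrrCharacter G} (hζ : degree ζ = p) {a : ℕ → IrrCharacter G → ℤ}
    (ha : ∀ j, 1 ≤ j → j < F.e → (∀ χ, classInner (F.φ j) χ.1 = a j χ) ∧ a j F.one = 1 ∧
      ∑ χ, a j χ ^ 2 = 3 ∧ (∑ χ, a j χ * (degree χ : ℤ)) = 0 ∧ F.φ j = ∑ χ, (a j χ : ℂ) • χ.1) :
    (∀ j, 1 ≤ j → j < F.e → a j ζ = 1) ∧
      classInner (fun _ : F.E => (1 : ℂ)) (fun z : F.E => ζ.1 z) = (F.d : ℂ) + 1 := by
  classical
  obtain ⟨ζ₀, -, huniq⟩ := F.huniq
  have hu : ∀ χ : IrrCharacter G, degree χ = p → χ = ζ := fun χ h =>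
    (huniq χ ((charDegree_eq_degree χ).trans h)).trans
      (huniq ζ ((charDegree_eq_degree ζ).trans hζ)).symm
  have hp2 := F.hp.two_le
  have hone : degree F.one = 1 := by
    have h := apply_one_eq_degree F.one
    rw [F.one_apply] at h
    exact_mod_cast h.symm
  have hζ1 : ζ ≠ F.one := fun h => by rw [h, hone] at hζ; omega
  have hζm : ζ ∈ Finset.univ.erase F.one := Finset.mem_erase.2 ⟨hζ1, Finset.mem_univ _⟩
  set T := (Finset.univ.erase F.one).erase ζ with hT
  have hsplit : ∀ f : IrrCharacter G → ℤ, ∑ χ, f χ = f F.one + (f ζ + ∑ χ ∈ T, f χ) := fun f => by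
    rw [hT, Finset.add_sum_erase _ f hζm, Finset.add_sum_erase _ f (Finset.mem_univ _)]
  have hfacts : ∀ j, 1 ≤ j → j < F.e → ∑ χ ∈ T, a j χ ^ 2 = 2 - a j ζ ^ 2 ∧
      ∑ χ ∈ T, a j χ * (degree χ : ℤ) = -1 - a j ζ * p := fun j hj hje => by
    obtain ⟨-, h1, h3, h0, -⟩ := ha j hj hje
    rw [hsplit, h1] at h3
    rw [hsplit, h1, hone, hζ] at h0
    refine ⟨?_, ?_⟩
    · linarith
    · push_cast at h0; linarith
  have hrange : ∀ j, 1 ≤ j → j < F.e → a j ζ = -1 ∨ a j ζ = 0 ∨ a j ζ = 1 := fun j hj hje => by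
    have h := (hfacts j hj hje).1
    have : 0 ≤ ∑ χ ∈ T, a j χ ^ 2 := Finset.sum_nonneg fun χ _ => sq_nonneg _
    have h2 : a j ζ ^ 2 ≤ 2 := by linarith
    have : -1 ≤ a j ζ := by nlinarith
    have : a j ζ ≤ 1 := by nlinarith
    omega
  -- when `ζ` occurs
  have hocc : ∀ j, 1 ≤ j → j < F.e → a j ζ ^ 2 = 1 → ∃ B ∈ T, (a j B = 1 ∨ a j B = -1) ∧
      (∀ χ ∈ T, χ ≠ B → a j χ = 0) ∧ a j B * (degree B : ℤ) = -1 - a j ζ * p := by
    intro j hj hje h
    obtain ⟨hs, hdg⟩ := hfacts j hj hje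
    obtain ⟨B, hB, hB1, hB0⟩ := split_one T (a j) (by rw [hs, h]; norm_num)
    refine ⟨B, hB, hB1, hB0, ?_⟩
    rwa [Finset.sum_eq_single B (fun χ hχ hne => by rw [hB0 χ hχ hne, zero_mul])
      (fun h => absurd hB h)] at hdg
  have hprod : ∀ i j, 1 ≤ i → i < F.e → 1 ≤ j → j < F.e →
      ((∑ χ, a i χ * a j χ : ℤ) : ℂ) = classInner (F.φ i) (F.φ j) := by
    intro i j hi hie hj hje
    rw [classInner_eq_sum (IsGeneralizedCharacter.isClassFunction (F.φ_generalized i))]
    push_cast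
    refine Finset.sum_congr rfl fun χ _ => ?_
    rw [(ha i hi hie).1 χ, ← conj_classInner, (ha j hj hje).1 χ, map_intCast]
  -- the sum over all `j`
  obtain ⟨M, hM⟩ := IsCharacter.exists_nat_classInner
    (IsIrrCharacter.isCharacter (isIrrCharacter_of_monoidHom (1 : F.E →* ℂ)))
    (IsCharacter.restrict (irr_isCharacter ζ) F.E)
  have hM' : classInner (fun _ : F.E => (1 : ℂ)) (fun z : F.E => ζ.1 z) = (M : ℂ) := by
    rw [← hM]
    congr 1
  have hsum : ∑ j ∈ Finset.Ico 1 F.e, a j ζ = (F.e : ℤ) * M - p := by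
    have h := F.sum_inner_φ ζ
    have h0 : F.φ 0 = 0 := by
      have : F.θ 0 = 0 := by funext z; simp [θ]
      rw [φ, this, indFun_zero]
    rw [hζ, hM', Finset.range_eq_Ico, Finset.sum_eq_sum_Ico_succ_bot (by have := F.h3; omega), h0,
      classInner_zero_left, zero_add, Finset.sum_congr rfl fun j hj => (ha j
        (Finset.mem_Ico.1 hj).1 (Finset.mem_Ico.1 hj).2).1 ζ] at h
    exact_mod_cast h
  have hdZ : (p : ℤ) = (F.d : ℤ) * F.e + 1 := by exact_mod_cast F.hd
  have h3 := F.h3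
  have hcard : (Finset.Ico 1 F.e).card = F.e - 1 := Nat.card_Ico 1 F.e
  have hno : ∀ j, 1 ≤ j → j < F.e → a j ζ ≠ -1 := by
    intro i hi hie hneg
    obtain ⟨B, hB, hB1, hB0, hBd⟩ := hocc i hi hie (by rw [hneg]; norm_num)
    have hBpos : a i B = 1 := hB1.resolve_right fun h => by rw [h, hneg] at hBd; omega
    have hBdeg : (degree B : ℤ) = p - 1 := by rw [hBpos, hneg] at hBd; linarith
    have hall : ∀ j, 1 ≤ j → j < F.e → a j ζ = -1 := by
      intro j hj hje
      by_cases hsame : i = j ∨ i + j = F.e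
      · rcases hsame with rfl | hs
        · exact hneg
        · have hj' : j = F.e - i := by omega
          have h1 := (ha j hj hje).1 ζ
          rw [hj', F.φ_symm hie.le, (ha i hi hie).1 ζ, hneg] at h1
          rw [hj']
          exact_mod_cast h1.symm
      · have h2 : ∑ χ, a i χ * a j χ = 2 := by
          have := hprod i j hi hie hj hje
          rw [F.inner_φ hi hie hj hje, if_neg hsame] at this
          exact_mod_cast this
        rw [hsplit, (ha i hi hie).2.1, (ha j hj hje).2.1, hneg,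
          Finset.sum_eq_single B (fun χ hχ hne => by rw [hB0 χ hχ hne, zero_mul])
            (fun h => absurd hB h), hBpos] at h2
        rcases hrange j hj hje with hc | hc | hc
        · exact hc
        · exfalso
          have hjB : a j B = 1 := by rw [hc] at h2; linarith
          obtain ⟨hs, hdg⟩ := hfacts j hj hje
          rw [← Finset.add_sum_erase T _ hB, hjB, hc] at hs hdg
          obtain ⟨C, hC, hC1, hC0⟩ := split_one (T.erase B) (a j) (by linarith)
          rw [Finset.sum_eq_single C (fun χ hχ hne => by rw [hC0 χ hχ hne, zero_mul])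
            (fun h => absurd hC h), hBdeg] at hdg
          have hCdeg : degree C = p := by
            rcases hC1 with h | h <;> rw [h] at hdg
            · omega
            · omega
          exact Finset.ne_of_mem_erase (Finset.mem_of_mem_erase hC) (hu C hCdeg)
        · exfalso
          obtain ⟨B', hB', hB'1, hB'0, hB'd⟩ := hocc j hj hje (by rw [hc]; norm_num)
          have hne : B ≠ B' := fun h => by
            subst h
            rcases hB'1 with h | h <;> rw [h, hc] at hB'd <;> omega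
          rw [hc, hB'0 B hB hne] at h2
          omega
    have h4 := hsum
    rw [Finset.sum_congr rfl fun j hj => hall j (Finset.mem_Ico.1 hj).1 (Finset.mem_Ico.1 hj).2,
      Finset.sum_const, hcard, nsmul_eq_mul, Nat.cast_sub (by omega), hdZ] at h4
    push_cast at h4
    have h5 : (F.e : ℤ) * ((M : ℤ) - F.d + 1) = 2 := by linarith
    have h6 : (F.e : ℤ) ∣ 2 := ⟨_, h5.symm⟩
    have := Int.le_of_dvd two_pos h6
    omega
  have hle : ∀ j ∈ Finset.Ico 1 F.e, a j ζ ≤ 1 ∧ 0 ≤ a j ζ := fun j hj => by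
    obtain ⟨h1, h2⟩ := Finset.mem_Ico.1 hj
    have := hno j h1 h2
    rcases hrange j h1 h2 with h | h | h <;> omega
  have hup : ∑ j ∈ Finset.Ico 1 F.e, a j ζ ≤ (F.e : ℤ) - 1 := by
    have h := Finset.sum_le_sum fun j hj => (hle j hj).1
    rw [Finset.sum_const, hcard, nsmul_eq_mul, mul_one, Nat.cast_sub (by omega), Nat.cast_one] at h
    exact h
  have hlo : 0 ≤ ∑ j ∈ Finset.Ico 1 F.e, a j ζ := Finset.sum_nonneg fun j hj => (hle j hj).2
  rw [hsum, hdZ] at hup hlo
  have hMd : (M : ℤ) - F.d = 1 := by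
    have h1 : (F.e : ℤ) * ((M : ℤ) - F.d) ≤ F.e := by linarith
    have h2 : 1 ≤ (F.e : ℤ) * ((M : ℤ) - F.d) := by linarith
    have he : (0 : ℤ) < F.e := by omega
    have : 0 < (M : ℤ) - F.d := by nlinarith
    have : (M : ℤ) - F.d ≤ 1 := by nlinarith
    omega
  refine ⟨fun j hj hje => ?_, ?_⟩
  · have htot : ∑ i ∈ Finset.Ico 1 F.e, (1 - a i ζ) = 0 := by
      rw [Finset.sum_sub_distrib, Finset.sum_const, hcard, nsmul_eq_mul, mul_one, hsum, hdZ,
        Nat.cast_sub (by omega)]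
      push_cast
      rw [show (M : ℤ) = F.d + 1 by omega]
      ring
    have := (Finset.sum_eq_zero_iff_of_nonneg fun i hi => by have := (hle i hi).1; omega).1 htot j
      (Finset.mem_Ico.2 ⟨hj, hje⟩)
    omega
  · rw [hM']
    exact_mod_cast (show (M : ℤ) = F.d + 1 by omega)

/-- The character of degree `p + 1`. -/
theorem exists_character :
    ∃ (B : IrrCharacter G) (l : ℂ), degree B = p + 1 ∧ (∀ g, (B.1 g).im = 0) ∧
      l ^ F.e = 1 ∧ l ^ 2 ≠ 1 ∧
      ∀ i : ℕ, B.1 (F.x ^ i) = (if F.e ∣ i then ((F.d * F.e : ℕ) : ℂ) else 0) + l ^ i + l⁻¹ ^ i := by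
  classical
  obtain ⟨a, ha⟩ := F.exists_coeff
  obtain ⟨ζ, hζc, huniq⟩ := F.huniq
  have hζ : degree ζ = p := (charDegree_eq_degree ζ).symm.trans hζc
  obtain ⟨hcoef, hm⟩ := F.coeff_eq_one hζ ha
  have h3 := F.h3
  obtain ⟨hinner, h1one, hnorm, hdeg, hdec⟩ := ha 1 le_rfl (by omega)
  have hone : degree F.one = 1 := by
    have h := apply_one_eq_degree F.one
    rw [F.one_apply] at h
    exact_mod_cast h.symm
  have hζ1 : ζ ≠ F.one := fun h => by
    have := F.hp.two_le
    rw [h, hone] at hζ; omega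
  have hζm : ζ ∈ Finset.univ.erase F.one := Finset.mem_erase.2 ⟨hζ1, Finset.mem_univ _⟩
  rw [← Finset.add_sum_erase _ _ (Finset.mem_univ F.one), ← Finset.add_sum_erase _ _ hζm, h1one,
    hcoef 1 le_rfl (by omega)] at hnorm hdeg
  obtain ⟨B, hB, hB1, hB0⟩ := split_one ((Finset.univ.erase F.one).erase ζ) (a 1) (by linarith)
  rw [Finset.sum_eq_single B (fun χ hχ hne => by rw [hB0 χ hχ hne, zero_mul]) (fun h => absurd hB h),
    hone, hζ] at hdeg
  have hBneg : a 1 B = -1 := hB1.resolve_left fun h => by rw [h] at hdeg; omega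
  have hBdeg : degree B = p + 1 := by rw [hBneg] at hdeg; omega
  have hBfun : ∀ g, B.1 g = 1 + ζ.1 g - F.φ 1 g := by
    intro g
    have h := congrFun hdec g
    rw [Finset.sum_apply, ← Finset.add_sum_erase _ _ (Finset.mem_univ F.one),
      ← Finset.add_sum_erase _ _ hζm, Finset.sum_eq_single B (fun χ hχ hne => by
        rw [hB0 χ hχ hne]; simp) (fun h => absurd hB h), h1one, hcoef 1 le_rfl (by omega), hBneg] at h
    simp only [Pi.smul_apply, smul_eq_mul, F.one_apply, Int.cast_one, Int.cast_neg, one_mul,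
      neg_mul, mul_one] at h
    rw [h]
    ring
  -- `ζ` is real and is `1` on `E \ {1}`
  have hζreal : ∀ g, conj (ζ.1 g) = ζ.1 g := by
    intro g
    let ζ' : IrrCharacter G := ⟨_, IsIrrCharacter.conj_fun ζ.2⟩
    have : ζ' = ζ := huniq ζ' (by
      show ⌊(conj (ζ.1 1)).re⌋₊ = p
      rw [Complex.conj_re]
      exact hζc)
    exact congrFun (congrArg Subtype.val this) g
  have hζE : ∀ z : F.E, z ≠ 1 → ζ.1 z = 1 := by
    intro z hz
    have he0 : (F.e : ℂ) ≠ 0 := Nat.cast_ne_zero.2 (by omega)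
    have hS : ∀ j < F.e, ∑ w : F.E, F.L w ^ j * conj (ζ.1 w) =
        (F.e : ℂ) * F.d + (if j = 0 then (F.e : ℂ) else 0) := by
      intro j hj
      have hm' : ∑ w : F.E, conj (ζ.1 w) = (F.e : ℂ) * ((F.d : ℂ) + 1) := by
        rw [← hm, classInner, F.card_E, ← mul_assoc, mul_inv_cancel₀ he0, one_mul]
        simp
      by_cases h0 : j = 0
      · subst h0
        simp only [pow_zero, one_mul, hm', if_true]
        ring
      · have h := (ha j (by omega) hj).1 ζ
        rw [hcoef j (by omega) hj, φ,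
          classInner_indFun F.E _ (IsCharacter.isClassFunction (irr_isCharacter ζ)), classInner,
          F.card_E, Int.cast_one, inv_mul_eq_one₀ he0] at h
        simp only [θ, sub_mul, one_mul, Finset.sum_sub_distrib, hm'] at h
        rw [if_neg h0, add_zero]
        linear_combination h
    have hinv : ∀ w : F.E, ∑ j ∈ Finset.range F.e, F.L z⁻¹ ^ j * F.L w ^ j =
        if w = z then (F.e : ℂ) else 0 := by
      intro w
      simp only [← mul_pow, ← map_mul]
      split_ifs with h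
      · simp [h]
      · obtain ⟨i, hi⟩ := F.gen_apply (z⁻¹ * w)
        have hne : F.L (z⁻¹ * w) ≠ 1 := fun h1 => h (by
          rw [hi, map_pow] at h1
          obtain ⟨c, rfl⟩ := F.L_gen.dvd_of_pow_eq_one i h1
          rw [pow_mul, F.pow_e, one_pow] at hi
          exact (inv_mul_eq_one.1 hi).symm)
        exact (mul_eq_zero.1 (show (F.L (z⁻¹ * w) - 1) * _ = 0 by
          rw [mul_geom_sum, F.L_pow_e, sub_self])).resolve_left (sub_ne_zero.2 hne)
    have key : ∑ j ∈ Finset.range F.e, F.L z⁻¹ ^ j * ∑ w : F.E, F.L w ^ j * conj (ζ.1 w) =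
        (F.e : ℂ) * conj (ζ.1 z) := by
      simp only [Finset.mul_sum, ← mul_assoc]
      rw [Finset.sum_comm]
      simp only [← Finset.sum_mul, hinv, ite_mul, zero_mul, Finset.sum_ite_eq', Finset.mem_univ, if_true]
    rw [Finset.sum_congr rfl fun j hj => by rw [hS j (Finset.mem_range.1 hj)]] at key
    have hgeo : ∑ j ∈ Finset.range F.e, F.L z⁻¹ ^ j = 0 := by
      have := hinv 1
      rw [if_neg (Ne.symm hz)] at this
      simpa using this
    simp only [mul_add, Finset.sum_add_distrib, ← Finset.sum_mul, hgeo, zero_mul, zero_add, mul_ite,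
      mul_zero, Finset.sum_ite_eq', Finset.mem_range, show 0 < F.e by omega, if_true, pow_zero,
      one_mul] at key
    have := mul_left_cancel₀ he0 ((mul_one _).trans key)
    rw [← hζreal, ← this]
  set z₀ : F.E := ⟨F.x, F.x_mem⟩
  refine ⟨B, F.L z₀, hBdeg, fun g => ?_, F.L_pow_e _, fun h => ?_, fun i => ?_⟩
  · have : conj (B.1 g) = B.1 g := by
      rw [hBfun g, map_sub, map_add, map_one, hζreal, F.conj_φ (by omega)]
    exact Complex.conj_eq_iff_im.1 this
  · have := Nat.le_of_dvd two_pos (F.L_gen.dvd_of_pow_eq_one 2 h)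
    omega
  · have hlinv : (F.L z₀)⁻¹ = F.L z₀⁻¹ :=
      inv_eq_of_mul_eq_one_right (by rw [← map_mul, mul_inv_cancel, map_one])
    rw [hlinv, ← map_pow, ← map_pow, inv_pow,
      show F.x ^ i = ((z₀ ^ i : F.E) : G) by simp [z₀]]
    by_cases hi : F.e ∣ i
    · obtain ⟨c, rfl⟩ := hi
      rw [pow_mul, F.pow_e, one_pow, inv_one, map_one, if_pos (dvd_mul_right _ _), Subgroup.coe_one,
        apply_one_eq_degree, hBdeg, Nat.cast_add_one, show (p : ℂ) = ((F.d * F.e : ℕ) : ℂ) + 1 by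
          exact_mod_cast F.hd]
    · have hne : z₀ ^ i ≠ 1 := fun h => hi (by
        have h' := orderOf_dvd_of_pow_eq_one h
        rwa [Subgroup.orderOf_mk, F.he] at h')
      rw [hBfun, hζE _ hne, F.φ_apply (by omega), pow_one, ← F.L_inv _ (show 1 ≤ F.e by omega),
        pow_one, if_neg hi]
      ring

end Frob

end Cfsg.Agent.UniqueDegree
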