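import Cfsg.Agent.Lib.UniqueDegree.Group
import Cfsg.Agent.Lib.Perm.PrimeInverter
import Cfsg.Agent.Lib.PrimeTwoQ.Small

/-!
# `E` of even order: degree `5`

The involution of `E` has centraliser of order at most `2 e`; counting the pairs (element, point
moved and exchanged) shows that `e = (p - 1) / 2`, that every element exchanging two points is
conjugate to this involution, hence that two-point stabilisers are regular abelian, and `p = 5`.
-/

set_option autoImplicit false
set_option linter.style.haveILetI false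
set_option linter.unusedSectionVars false

namespace Cfsg.Agent.UniqueDegree

open Cfsg.Agent.Char MulAction

variable {α : Type*} [Fintype α] [DecidableEq α] {p : ℕ} [hp : Fact p.Prime]
  {G : Subgroup (Equiv.Perm α)} [IsPretransitive G α]

namespace Setting

variable (S : Setting G p)

theorem x_mem : S.x ∈ S.E := S.hx ▸ Subgroup.mem_zpowers S.x

theorem card_E : Nat.card S.E = S.e := by
  have h := Nat.card_zpowers S.x
  rw [S.hx, S.hxe] at h
  exact h

theorem mem_normalizer_of_mem {z : G} (hz : z ∈ S.E) (hz1 : z ≠ 1) {g : G} (hg : g⁻¹ * z * g ∈ S.E) :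
    g ∈ Subgroup.normalizer (S.E : Set G) := by
  by_contra hgN
  have h : z ∈ S.E ⊓ S.E.map (MulAut.conj g).toMonoidHom :=
    Subgroup.mem_inf.2 ⟨hz, Subgroup.mem_map.2 ⟨g⁻¹ * z * g, hg, by
      show g * (g⁻¹ * z * g) * g⁻¹ = z
      group⟩⟩
  rw [S.hTI g hgN] at h
  exact hz1 (Subgroup.mem_bot.1 h)

theorem mem_normalizer_of_comm {z : G} (hz : z ∈ S.E) (hz1 : z ≠ 1) {g : G} (hg : g * z = z * g) :
    g ∈ Subgroup.normalizer (S.E : Set G) :=
  S.mem_normalizer_of_mem hz hz1 (by rwa [mul_assoc, ← hg, inv_mul_cancel_left])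

theorem moved_iff {g : G} (hg : g ∈ S.E) (hg1 : g ≠ 1) (b : α) : g • b ≠ b ↔ b ≠ S.a := by
  refine ⟨fun h hb => h ?_, fun h hb => h (S.hfree g hg hg1 b hb)⟩
  rw [hb]
  exact S.hfix g (Subgroup.le_normalizer hg)

/-- `e ≠ p - 1`, since a generator would be an odd permutation. -/
theorem e_ne (hα : Fintype.card α = p) (hG : commutator G = ⊤) (h5 : 5 ≤ p) : S.e ≠ p - 1 := by
  intro he
  have hs := sign_eq_one hG S.x
  have hpow : ∀ {i : ℕ}, i < S.e → i ≠ 0 → S.x ^ i ≠ 1 := fun hi hi0 h =>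
    hi0 (Nat.eq_zero_of_dvd_of_lt (by
      have := orderOf_dvd_of_pow_eq_one h
      rwa [S.hxe] at this) hi)
  have hx1 : S.x ≠ 1 := by simpa using hpow (i := 1) (by omega) one_ne_zero
  have hmv : ∀ b : α, (S.x : Equiv.Perm α) b ≠ b ↔ b ≠ S.a := fun b => S.moved_iff S.x_mem hx1 b
  have hsupp : (S.x : Equiv.Perm α).support = Finset.univ.erase S.a := by
    ext b
    rw [Equiv.Perm.mem_support, hmv, Finset.mem_erase]
    exact ⟨fun h => ⟨h, Finset.mem_univ _⟩, And.left⟩
  have hcard : (S.x : Equiv.Perm α).support.card = p - 1 := by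
    rw [hsupp, Finset.card_erase_of_mem (Finset.mem_univ _), Finset.card_univ, hα]
  obtain ⟨b, hb⟩ : ∃ b : α, b ≠ S.a := Fintype.exists_ne_of_one_lt_card (by omega) S.a
  let f : Fin S.e → α := fun i => S.x ^ (i : ℕ) • b
  have hinj : Function.Injective f := by
    intro i j hij
    by_contra hne
    wlog hlt : (i : ℕ) < j generalizing i j
    · exact this hij.symm (Ne.symm hne)
        (lt_of_le_of_ne (not_lt.1 hlt) fun h => hne (Fin.ext h.symm))
    refine hb (S.hfree (S.x ^ ((j : ℕ) - i)) (pow_mem S.x_mem _) (hpow (by omega) (by omega)) b ?_)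
    refine MulAction.injective (S.x ^ (i : ℕ)) ?_
    show S.x ^ (i : ℕ) • S.x ^ ((j : ℕ) - i) • b = S.x ^ (i : ℕ) • b
    rw [← mul_smul, ← pow_add, Nat.add_sub_cancel' hlt.le]
    exact hij.symm
  have himg : Finset.univ.image f = Finset.univ.erase S.a := by
    refine Finset.eq_of_subset_of_card_le (fun z hz => ?_) ?_
    · obtain ⟨i, -, rfl⟩ := Finset.mem_image.1 hz
      refine Finset.mem_erase.2 ⟨fun h => hb ?_, Finset.mem_univ _⟩
      refine MulAction.injective (S.x ^ (i : ℕ)) ?_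
      show S.x ^ (i : ℕ) • b = S.x ^ (i : ℕ) • S.a
      rw [S.hfix _ (pow_mem (Subgroup.le_normalizer S.x_mem) _)]
      exact h
    · rw [Finset.card_image_of_injective _ hinj, Finset.card_univ, Fintype.card_fin, ← hsupp, hcard, he]
  have hcyc : (S.x : Equiv.Perm α).IsCycle := by
    refine ⟨b, (hmv b).2 hb, fun z hz => ?_⟩
    obtain ⟨i, -, hi⟩ := Finset.mem_image.1 (himg.symm ▸
      Finset.mem_erase.2 ⟨(hmv z).1 hz, Finset.mem_univ z⟩)
    exact ⟨(i : ℤ), by rw [zpow_natCast, ← SubgroupClass.coe_pow]; exact hi⟩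
  rw [hcyc.sign, hcard] at hs
  obtain ⟨m, hm⟩ := hp.out.odd_of_ne_two (by omega)
  rw [show p - 1 = 2 * m by omega, pow_mul, neg_one_sq, one_pow] at hs
  exact absurd hs (by decide)

/-- The even case. -/
theorem degree_five (hα : Fintype.card α = p) (hG : commutator G = ⊤) (hins : ¬ Group.IsSolvable G)
    (heven : 2 ∣ S.e) :
    p = 5 ∧ Nonempty (G ≃* Matrix.ProjectiveSpecialLinearGroup (Fin 2) (ZMod p)) := by
  classical
  haveI := Fintype.ofFinite G
  obtain ⟨c₀, hc₀⟩ := Perm.PrimeDegree.exists_orderOf_eq G hα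
  haveI : Nonempty α := Fintype.card_pos_iff.1 (hα ▸ hp.out.pos)
  have h5 : 5 ≤ p := by
    obtain ⟨c, -, -⟩ := Perm.PrimeDegree.exists_coords hα
      (show orderOf (c₀ : Equiv.Perm α) = p by rw [Subgroup.orderOf_coe, hc₀]) (Classical.arbitrary α)
    exact Perm.PrimeDegree.five_le_of_not_isSolvable c hins
  -- the involution
  haveI := Fact.mk Nat.prime_two
  obtain ⟨⟨t, htE⟩, ht'⟩ := exists_prime_orderOf_dvd_card' (G := S.E) 2 (S.card_E.symm ▸ heven)
  rw [Subgroup.orderOf_mk] at ht'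
  have ht1 : t ≠ 1 := fun h => by rw [h, orderOf_one] at ht'; omega
  set c := Nat.card (Subgroup.centralizer ({t} : Set G)) with hcdef
  have hc : c ≤ 2 * S.e := by
    rw [← S.hN]
    exact Subgroup.card_le_of_le fun g hg => S.mem_normalizer_of_comm htE ht1
      (Subgroup.mem_centralizer_singleton_iff.1 hg)
  set Cl := {g : G // IsConj t g}
  have hCl : Nat.card Cl * c = Nat.card G := by rw [mul_comm]; exact card_centralizer_mul_card_conj t
  -- conjugates of `t` are involutions with one fixed point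
  have hfp : ∀ g : G, IsConj t g → g * g = 1 ∧ ∃ z : α, ∀ b : α, g • b ≠ b ↔ b ≠ z := by
    intro g hg
    obtain ⟨k, rfl⟩ := isConj_iff.1 hg
    have htt : t * t = 1 := by rw [← pow_two, ← ht', pow_orderOf_eq_one]
    refine ⟨by rw [show k * t * k⁻¹ * (k * t * k⁻¹) = k * (t * t) * k⁻¹ by group, htt]; group,
      k • S.a, fun b => ?_⟩
    rw [mul_smul, mul_smul, Ne, ← eq_inv_smul_iff, ← Ne, S.moved_iff htE ht1]
    exact not_congr inv_smul_eq_iff
  -- the moved pairs
  let A := {q : G × α // IsConj t q.1 ∧ q.1 • q.2 ≠ q.2}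
  let B := {q : G × α // q.1 • q.1 • q.2 = q.2 ∧ q.1 • q.2 ≠ q.2}
  have hA : Nat.card A = Nat.card Cl * (p - 1) := by
    let e : A ≃ Σ g : Cl, {b : α // (g : G) • b ≠ b} :=
      { toFun := fun q => ⟨⟨q.1.1, q.2.1⟩, ⟨q.1.2, q.2.2⟩⟩
        invFun := fun s => ⟨(s.1.1, s.2.1), s.1.2, s.2.2⟩
        left_inv := fun q => rfl
        right_inv := fun s => rfl }
    rw [Nat.card_congr e, Nat.card_sigma, Finset.sum_const_nat (m := p - 1) (fun g _ => ?_),
      Finset.card_univ, ← Nat.card_eq_fintype_card]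
    obtain ⟨-, z, hz⟩ := hfp g g.2
    rw [Nat.card_congr (Equiv.subtypeEquivRight hz), Nat.card_eq_fintype_card,
      Fintype.card_subtype_compl, Fintype.card_subtype_eq, hα]
  haveI := Perm.PrimeDegree.twoTransitive_of_not_isSolvable hα hins
  have two : ∀ {a b u v : α}, a ≠ b → u ≠ v → ∃ g : G, g • a = u ∧ g • b = v := fun hab huv =>
    MulAction.is_two_pretransitive_iff.1 (inferInstance : IsMultiplyPretransitive G α 2) hab huv
  obtain ⟨b₀, hb₀⟩ : ∃ b : α, b ≠ S.a := Fintype.exists_ne_of_one_lt_card (by omega) S.a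
  choose k hk₁ hk₂ using fun z : {z : α × α // z.1 ≠ z.2} => two hb₀ z.2
  let Φ : B → G := fun q => q.1.1 * k ⟨(q.1.1 • q.1.2, q.1.2), q.2.2⟩
  have hΦ : Function.Injective Φ := by
    intro q q' h
    have h1 : ∀ q : B, Φ q • b₀ = q.1.2 ∧ Φ q • S.a = q.1.1 • q.1.2 := fun q =>
      ⟨by rw [mul_smul, hk₁]; exact q.2.1, by rw [mul_smul, hk₂]⟩
    have hb : q.1.2 = q'.1.2 := by rw [← (h1 q).1, ← (h1 q').1, h]
    have hgb : q.1.1 • q.1.2 = q'.1.1 • q'.1.2 := by rw [← (h1 q).2, ← (h1 q').2, h]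
    have hk : k ⟨(q.1.1 • q.1.2, q.1.2), q.2.2⟩ = k ⟨(q'.1.1 • q'.1.2, q'.1.2), q'.2.2⟩ :=
      congrArg k (Subtype.ext (Prod.ext hgb hb))
    have hg : q.1.1 = q'.1.1 := by
      have h2 : q.1.1 * k _ = q'.1.1 * k _ := h
      rw [hk] at h2
      exact mul_right_cancel h2
    exact Subtype.ext (Prod.ext hg hb)
  let incl : A → B := fun q => ⟨q.1, by
    have h := (hfp _ q.2.1).1
    rw [← mul_smul, h, one_smul], q.2.2⟩
  have hincl : Function.Injective incl := fun q q' h => Subtype.ext (congrArg (fun q : B => q.1) h)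
  have hAB := Nat.card_le_card_of_injective incl hincl
  have hBG := Nat.card_le_card_of_injective Φ hΦ
  have hclpos : 0 < Nat.card Cl := by
    haveI : Nonempty Cl := ⟨⟨t, IsConj.refl t⟩⟩
    exact Nat.card_pos
  have hc1 : p - 1 ≤ c := by
    rw [hA] at hAB
    exact Nat.le_of_mul_le_mul_left ((hAB.trans hBG).trans hCl.symm.le) hclpos
  have he : 2 * S.e = p - 1 := by
    obtain ⟨j, hj⟩ := S.hep
    have hne := S.e_ne hα hG h5
    have h2 := S.he2
    rcases j with _ | _ | _ | j
    · omega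
    · simp at hj; omega
    · omega
    · have : S.e * 3 ≤ S.e * (j + 1 + 1 + 1) := Nat.mul_le_mul_left _ (by omega)
      omega
  have hceq : c = p - 1 := by omega
  -- every element exchanging two points is conjugate to `t`
  have hswap : ∀ (g : G) (b : α), g • g • b = b → g • b ≠ b → IsConj t g := by
    intro g b h1 h2
    have hbij : Function.Bijective incl := (Nat.bijective_iff_injective_and_card incl).2
      ⟨hincl, le_antisymm hAB (by rw [hA, ← hceq, hCl]; exact hBG)⟩
    obtain ⟨q, hq⟩ := hbij.2 ⟨(g, b), h1, h2⟩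
    have : q.1 = (g, b) := congrArg (fun q : B => q.1) hq
    have h3 := q.2.1
    rwa [this] at h3
  -- two-point stabilisers are abelian
  have hinvol : ∀ (g : G) (b : α), g • g • b = b → g • b ≠ b → g * g = 1 := fun g b h1 h2 =>
    (hfp g (hswap g b h1 h2)).1
  obtain ⟨s, hs1, hs2⟩ := two (Ne.symm hb₀) hb₀
  have hss : s * s = 1 := hinvol s S.a (by rw [hs1, hs2]) (by rw [hs1]; exact hb₀)
  have hinv : ∀ h : G, h • b₀ = b₀ → h • S.a = S.a → s * h * s = h⁻¹ := by
    intro h hb ha
    have e1 : (s * h) • S.a = b₀ := by rw [mul_smul, ha, hs1]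
    have e2 : (s * h) • b₀ = S.a := by rw [mul_smul, hb, hs2]
    have h1 : s * h * (s * h) = 1 := hinvol (s * h) S.a
      (by rw [e1, e2]) (by rw [e1]; exact hb₀)
    rw [eq_inv_iff_mul_eq_one]
    simpa [mul_assoc] using h1
  have hcomm : ∀ g h : G, g • b₀ = b₀ → g • S.a = S.a → h • b₀ = b₀ → h • S.a = S.a → g * h = h * g := by
    intro g h gb ga hb ha
    have h1 := hinv (g * h) (by rw [mul_smul, hb, gb]) (by rw [mul_smul, ha, ga])
    have h2 : (g * h)⁻¹ = g⁻¹ * h⁻¹ := by
      calc (g * h)⁻¹ = s * (g * h) * s := h1.symm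
        _ = (s * g * s) * (s⁻¹ * s⁻¹) * (s * h * s) := by group
        _ = g⁻¹ * h⁻¹ := by
          rw [hinv g gb ga, hinv h hb ha, ← mul_inv_rev, hss, inv_one, mul_one]
    rw [mul_inv_rev] at h2
    have h3 := congrArg (fun z : G => z⁻¹) h2
    simpa using h3
  -- triple transitivity
  haveI := Perm.PrimeInverter.three_transitive hα inferInstance hins S.P (by
    rw [S.hNcard]; exact heven.mul_left p)
  have three : ∀ x y : Fin 3 ↪ α, ∃ g : G, g • x = y := fun x y => MulAction.exists_smul_eq G x y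
  have mk3 : ∀ {u v w : α}, u ≠ v → u ≠ w → v ≠ w → ∃ x : Fin 3 ↪ α, x 0 = u ∧ x 1 = v ∧ x 2 = w :=
    fun huv huw hvw => ⟨⟨![_, _, _], Perm.PrimeTwin.injective_three huv huw hvw⟩, rfl, rfl, rfl⟩
  obtain ⟨z, hz1, hz2⟩ : ∃ z : α, z ≠ S.a ∧ z ≠ b₀ := by
    obtain ⟨z, hz⟩ := Finset.exists_mem_notMem_of_card_lt_card (s := {S.a, b₀}) (t := Finset.univ)
      (by rw [Finset.card_univ, hα]; exact lt_of_le_of_lt Finset.card_le_two (by omega))
    simp only [Finset.mem_insert, Finset.mem_singleton, not_or] at hz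
    exact ⟨z, hz.2⟩
  obtain ⟨x₀, hx₀0, hx₀1, hx₀2⟩ := mk3 (Ne.symm hb₀) hz1.symm hz2.symm
  have hreg : Function.Injective fun g : G => g • x₀ := by
    intro g g' hgg
    dsimp only at hgg
    set k := g⁻¹ * g'
    have hk : ∀ i, k • x₀ i = x₀ i := fun i => by
      rw [mul_smul, inv_smul_eq_iff, ← Function.Embedding.smul_apply, ← Function.Embedding.smul_apply, hgg]
    have ka : k • S.a = S.a := by rw [← hx₀0]; exact hk 0
    have kb : k • b₀ = b₀ := by rw [← hx₀1]; exact hk 1
    have kz : k • z = z := by rw [← hx₀2]; exact hk 2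
    have : k = 1 := eq_of_smul_eq_smul (α := α) fun w => by
      rw [one_smul]
      by_cases hwa : w = S.a
      · rw [hwa, ka]
      by_cases hwb : w = b₀
      · rw [hwb, kb]
      obtain ⟨y, hy0, hy1, hy2⟩ := mk3 (Ne.symm hb₀) (Ne.symm hwa) (Ne.symm hwb)
      obtain ⟨j, hj⟩ := three x₀ y
      have hji : ∀ i, j • x₀ i = y i := fun i => by rw [← Function.Embedding.smul_apply, hj]
      have ja : j • S.a = S.a := by have := hji 0; rwa [hx₀0, hy0] at this
      have jb : j • b₀ = b₀ := by have := hji 1; rwa [hx₀1, hy1] at this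
      have jz : j • z = w := by have := hji 2; rwa [hx₀2, hy2] at this
      rw [← jz, ← mul_smul, hcomm k j kb ka jb ja, mul_smul, kz]
    exact inv_mul_eq_one.1 this
  have hcard : Nat.card G = p * ((p - 1) * (p - 2)) := by
    rw [Nat.card_congr (Equiv.ofBijective _ ⟨hreg, fun y => three x₀ y⟩), Nat.card_eq_fintype_card,
      Fintype.card_embedding_eq, Fintype.card_fin, hα]
    simp only [Nat.descFactorial_succ, Nat.descFactorial_zero]
    have e1 : p - 0 = p := rfl
    rw [e1]; ring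
  -- the Sylow count
  have hmul : Nat.card (Sylow p G) * (p * S.e) = Nat.card G := by
    rw [← S.hNcard, Sylow.card_eq_index_normalizer S.P]; exact Subgroup.index_mul_card _
  have hn : Nat.card (Sylow p G) = 2 * (p - 2) := by
    rw [hcard, ← he] at hmul
    refine Nat.eq_of_mul_eq_mul_right (Nat.mul_pos hp.out.pos (by omega : 0 < S.e)) ?_
    rw [hmul]; ring
  have hmod : Nat.card (Sylow p G) % p = 1 % p := card_sylow_modEq_one p G
  rw [hn, Nat.mod_eq_of_lt (show 1 < p by omega), show 2 * (p - 2) = (p - 4) + 1 * p by omega,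
    Nat.add_mul_mod_self_right, Nat.mod_eq_of_lt (show p - 4 < p by omega)] at hmod
  have hp5 : p = 5 := by omega
  subst hp5
  exact ⟨rfl, PrimeTwoQ.degree_five hα hins S.P (by rw [S.hNcard]; omega)⟩

end Setting

end Cfsg.Agent.UniqueDegree
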