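import Cfsg.Agent.Lib.Char.Clifford
import Cfsg.Agent.Lib.Char.Linear
import Cfsg.Agent.Lib.Coprime.Basic
import Cfsg.Agent.Lib.Perm.PrimeTwin
import Cfsg.Agent.Lib.Perm.PrimeDegreeSimple
import Cfsg.Agent.Lib.UniqueDegree.Coherence

/-!
# Transitive groups of prime degree with a unique character of that degree: first reductions

* `not_isSolvable`, `linear_trivial`, `isSimple`: such a group is non-solvable, perfect and simple.
* `Setting`: the hypotheses of the theorem, with the point fixed by `E` and a generator of `E`.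
-/

set_option autoImplicit false
set_option linter.style.haveILetI false
set_option linter.unusedSectionVars false

namespace Cfsg.Agent.UniqueDegree

open Cfsg.Agent.Char MulAction

variable {α : Type*} [Fintype α] [DecidableEq α] {p : ℕ} [hp : Fact p.Prime]
  {G : Subgroup (Equiv.Perm α)} [IsPretransitive G α]

theorem dvd_card (hα : Fintype.card α = p) : p ∣ Nat.card G := by
  haveI : Nonempty α := Fintype.card_pos_iff.1 (hα ▸ hp.out.pos)
  rw [← hα, ← Nat.card_eq_fintype_card, ← index_stabilizer_of_transitive G (Classical.arbitrary α)]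
  exact Subgroup.index_dvd_card _

theorem card_sylow (hα : Fintype.card α = p) (P : Sylow p G) : Nat.card P = p := by
  obtain ⟨k, hk⟩ := P.isPGroup'.exists_card_eq
  have h1 : p ∣ Nat.card P := P.dvd_card_of_dvd_card (dvd_card hα)
  have h2 : ¬ p ^ 2 ∣ Nat.card P := fun h => Perm.PrimeDegree.not_dvd_card_sq G hp.out hα
    (h.trans (P : Subgroup G).card_subgroup_dvd_card)
  rw [hk] at h1 h2 ⊢
  rcases k with _ | _ | k
  · exact absurd (Nat.dvd_one.1 h1) hp.out.ne_one
  · exact pow_one p
  · exact absurd (pow_dvd_pow p (by omega)) h2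

theorem not_isSolvable (hα : Fintype.card α = p)
    (huniq : ∃! χ : Cfsg.IrrCharacter G, Cfsg.charDegree (χ : G → ℂ) = p) :
    ¬ Group.IsSolvable G := by
  intro hs
  haveI := Fintype.ofFinite G
  obtain ⟨d, hd, hc⟩ := Perm.PrimeTwin.card_of_solvable (L := G) (Y := α)
    (by rw [Nat.card_eq_fintype_card, hα]) inferInstance hs
  obtain ⟨ζ, hζ, -⟩ := huniq
  rw [charDegree_eq_degree] at hζ
  have h1 : degree ζ ^ 2 ≤ ∑ χ : IrrCharacter G, degree χ ^ 2 :=
    Finset.single_le_sum (f := fun χ : IrrCharacter G => degree χ ^ 2) (fun χ _ => Nat.zero_le _)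
      (Finset.mem_univ ζ)
  rw [sum_degree_sq, hζ, hc, pow_two] at h1
  have h2 := Nat.le_of_dvd (by have := hp.out.two_le; omega) hd
  have h3 := Nat.le_of_mul_le_mul_left h1 hp.out.pos
  have := hp.out.two_le
  omega

theorem normal_contains (hα : Fintype.card α = p) (P : Sylow p G) {L : Subgroup G} [L.Normal]
    (hL : L ≠ ⊥) : (P : Subgroup G) ≤ L := by
  haveI : IsPreprimitive G α :=
    IsPreprimitive.of_prime_card (by rw [Nat.card_eq_fintype_card, hα]; exact hp.out)
  haveI := Perm.normal_isPretransitive (α := α) L hL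
  haveI : Nonempty α := Fintype.card_pos_iff.1 (hα ▸ hp.out.pos)
  have hpL : p ∣ Nat.card L := by
    rw [Perm.card_eq_degree_mul L (Classical.arbitrary α), Nat.card_eq_fintype_card, hα]
    exact dvd_mul_right _ _
  obtain ⟨c, hc⟩ := exists_prime_orderOf_dvd_card' (G := L) p hpL
  obtain ⟨Q, hQ⟩ := (IsPGroup.of_card (p := p) (G := Subgroup.zpowers (c : G)) (n := 1)
    (by rw [Nat.card_zpowers, Subgroup.orderOf_coe, hc, pow_one])).exists_le_sylow
  have hQe : Subgroup.zpowers (c : G) = Q := Subgroup.eq_of_le_of_card_ge hQ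
    (by rw [Nat.card_zpowers, Subgroup.orderOf_coe, hc]; exact (card_sylow hα Q).le)
  obtain ⟨g, rfl⟩ := MulAction.exists_smul_eq G Q P
  rw [Sylow.coe_subgroup_smul, ← hQe]
  intro z hz
  rw [Coprime.mem_conj_smul_iff] at hz
  have h1 : g⁻¹ * z * g ∈ L := (Subgroup.zpowers_le.2 c.2) hz
  have h2 := (inferInstance : L.Normal).conj_mem _ h1 g
  simpa [mul_assoc] using h2

/-- No non-trivial linear character. -/
theorem linear_trivial (hα : Fintype.card α = p)
    (huniq : ∃! χ : Cfsg.IrrCharacter G, Cfsg.charDegree (χ : G → ℂ) = p) (lam : G →* ℂ) :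
    lam = 1 := by
  classical
  haveI := Fintype.ofFinite G
  by_contra hne
  obtain ⟨P⟩ : Nonempty (Sylow p G) := inferInstance
  have hns := not_isSolvable hα huniq
  have hker : ∀ mu : G →* ℂ, (P : Subgroup G) ≤ mu.toHomUnits.ker := fun mu => by
    refine normal_contains hα P fun h => hns ?_
    exact Group.isSolvable_of_isSolvable_injective (f := mu.toHomUnits)
      ((MonoidHom.ker_eq_bot_iff _).1 h)
  -- a linear character of prime order
  have hpow : lam ^ Nat.card G = 1 := MonoidHom.ext fun g => by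
    rw [MonoidHom.pow_apply, ← map_pow, pow_card_eq_one', map_one, MonoidHom.one_apply]
  have hfin : IsOfFinOrder lam := isOfFinOrder_iff_pow_eq_one.2 ⟨_, Nat.card_pos, hpow⟩
  have hord : orderOf lam ≠ 1 := fun h => hne (orderOf_eq_one_iff.1 h)
  obtain ⟨r, hr, hrd⟩ := Nat.exists_prime_and_dvd hord
  set mu := lam ^ (orderOf lam / r)
  have hmu : orderOf mu = r := orderOf_pow_orderOf_div hfin.orderOf_pos.ne' hrd
  set K := mu.toHomUnits.ker with hK
  have hKidx : K.index = r := by
    have hle : mu.toHomUnits.range ≤ rootsOfUnity r ℂ := by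
      rintro _ ⟨g, rfl⟩
      refine (mem_rootsOfUnity _ _).2 (Units.ext ?_)
      have h := DFunLike.congr_fun (show mu ^ r = 1 from hmu ▸ pow_orderOf_eq_one mu) g
      simpa using h
    have hdvd := Subgroup.card_dvd_of_le hle
    haveI : NeZero r := ⟨hr.ne_zero⟩
    rw [Complex.card_rootsOfUnity] at hdvd
    rcases (Nat.dvd_prime hr).1 hdvd with h | h
    · exfalso
      refine hr.ne_one (hmu.symm.trans (orderOf_eq_one_iff.2 (MonoidHom.ext fun g => ?_)))
      have : mu.toHomUnits g = 1 := (Subgroup.card_eq_one.1 h).le ⟨g, rfl⟩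
      exact congrArg Units.val this
    · rw [hK, Subgroup.index_ker, h]
  obtain ⟨ζ, hζc, hu⟩ := huniq
  have hζ : degree ζ = p := (charDegree_eq_degree ζ).symm.trans hζc
  let ζ' : IrrCharacter G := ⟨_, IsIrrCharacter.mul_linear ζ.2 mu⟩
  have hζ' : ζ' = ζ := hu ζ' (by
    show ⌊((⇑mu * ζ.1) 1).re⌋₊ = p
    rw [Pi.mul_apply, map_one, one_mul]
    exact hζc)
  have hoff : ∀ g, g ∉ K → ζ.1 g = 0 := fun g hg => by
    have h : mu g * ζ.1 g = ζ.1 g := congrFun (congrArg Subtype.val hζ') g
    have hm : mu g ≠ 1 := fun h1 => hg (MonoidHom.mem_ker.2 (Units.ext h1))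
    exact (mul_eq_zero.1 (show (mu g - 1) * ζ.1 g = 0 by rw [sub_mul, h, one_mul, sub_self])).resolve_left
      (sub_ne_zero.2 hm)
  have hnorm : classInner (resFun K ζ.1) (resFun K ζ.1) = (r : ℂ) := by
    have h1 := classInner_irr_self ζ.2
    have hsplit : ∑ g : G, ζ.1 g * starRingEnd ℂ (ζ.1 g) = ∑ h : K, ζ.1 h * starRingEnd ℂ (ζ.1 h) := by
      refine (Fintype.sum_of_injective (Subtype.val : K → G) Subtype.val_injective _ _
        (fun g hg => ?_) (fun h => rfl)).symm
      rw [hoff g (fun h => hg ⟨⟨g, h⟩, rfl⟩), zero_mul]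
    rw [classInner, hsplit, ← K.index_mul_card, hKidx, Nat.cast_mul] at h1
    rw [classInner]
    simp only [resFun_apply]
    field_simp [Nat.cast_ne_zero.2 hr.ne_zero] at h1 ⊢
    linear_combination h1
  obtain ⟨θ, hθ⟩ := exists_constituent K ζ
  obtain ⟨c, hc⟩ := IsCharacter.exists_nat_classInner (IsCharacter.restrict (irr_isCharacter ζ) K)
    (irr_isCharacter θ)
  have hres := resFun_eq_smul_orbitSum K ζ θ hθ
  have horb : classInner (orbitSum K θ) (orbitSum K θ) = ((orbitFinset K θ).card : ℂ) := by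
    simp only [orbitSum, classInner_sum_left, classInner_sum_right, classInner_irr]
    rw [Finset.sum_congr rfl fun x hx => Finset.sum_eq_single x (fun y _ hy => if_neg fun h => hy ?_)
      (fun h => absurd hx h)]
    · simp
    · first | exact h.symm | exact h
  have hc' : classInner (resFun K ζ.1) θ.1 = (c : ℂ) := hc
  rw [hres, classInner_smul_left, classInner_smul_right, horb, hc', map_natCast, ← mul_assoc] at hnorm
  have hnorm' : c * c * (orbitFinset K θ).card = r := by exact_mod_cast hnorm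
  have hc1 : c = 1 := by
    rcases (Nat.dvd_prime hr).1 (Dvd.intro _ (by rw [← hnorm', mul_assoc]) : c ∣ r) with h | h
    · exact h
    · exfalso
      have h2 : c * c ∣ r := Dvd.intro _ hnorm'
      rw [h] at h2
      have h3 := Nat.le_of_dvd hr.pos h2
      have := hr.two_le
      nlinarith
  have hdeg := apply_one_eq_mul_card_orbit K ζ θ hθ
  rw [hc', hc1, Nat.cast_one, one_mul, apply_one_eq_degree, apply_one_eq_degree, hζ] at hdeg
  have hdeg' : p = (orbitFinset K θ).card * degree θ := by exact_mod_cast hdeg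
  rw [show (orbitFinset K θ).card = r by rw [← hnorm', hc1, one_mul, one_mul]] at hdeg'
  have hrp : r = p := (Nat.prime_dvd_prime_iff_eq hr hp.out).1 ⟨_, hdeg'⟩
  have hp2 := Perm.PrimeDegree.not_dvd_card_sq G hp.out hα
  refine hp2 ?_
  rw [pow_two, ← K.index_mul_card, hKidx, hrp]
  refine Nat.mul_dvd_mul_left p ?_
  rw [← card_sylow hα P]
  exact Subgroup.card_dvd_of_le (hker mu)

theorem commutator_eq_top (hα : Fintype.card α = p)
    (huniq : ∃! χ : Cfsg.IrrCharacter G, Cfsg.charDegree (χ : G → ℂ) = p) : commutator G = ⊤ := by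
  rw [← Subgroup.index_eq_one, ← card_monoidHom_complex, Nat.card_eq_one_iff_unique]
  exact ⟨⟨fun a b => (linear_trivial hα huniq a).trans (linear_trivial hα huniq b).symm⟩, ⟨1⟩⟩

/-- Every map to a commutative group is trivial. -/
theorem hom_trivial {A : Type*} [Group A] (hA : ∀ a b : A, a * b = b * a)
    (hG : commutator G = ⊤) (f : G →* A) (g : G) : f g = 1 := by
  have hle : commutator G ≤ f.ker := by
    rw [commutator_def, Subgroup.commutator_le]
    intro a _ b _
    rw [MonoidHom.mem_ker, map_commutatorElement, commutatorElement_eq_one_iff_mul_comm, hA]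
  exact MonoidHom.mem_ker.1 (hle (hG ▸ Subgroup.mem_top g))

theorem sign_eq_one (hG : commutator G = ⊤) (g : G) : Equiv.Perm.sign (g : Equiv.Perm α) = 1 :=
  hom_trivial (fun a b => mul_comm a b) hG (Equiv.Perm.sign.comp G.subtype) g

/-- No Sylow subgroup is central in its normaliser. -/
theorem not_normalizer_le_centralizer (hG : commutator G = ⊤) {r : ℕ} [Fact r.Prime] (R : Sylow r G)
    (hR : Nat.card R ≠ 1) :
    ¬ Subgroup.normalizer ((R : Subgroup G) : Set G) ≤ Subgroup.centralizer ((R : Subgroup G) : Set G) := by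
  intro h
  have hcomm : ∀ a b : (R : Subgroup G), a * b = b * a := fun a b =>
    Subtype.ext (h (Subgroup.le_normalizer b.2) a a.2)
  have hker : (MonoidHom.transferSylow R h).ker = ⊤ :=
    eq_top_iff.2 fun g _ => MonoidHom.mem_ker.2 (hom_trivial hcomm hG _ g)
  have hcompl := MonoidHom.ker_transferSylow_isComplement' R h
  rw [hker] at hcompl
  exact hR (Subgroup.eq_bot_iff_card _ |>.1 (Subgroup.isComplement'_top_left.1 hcompl))

/-- `G` is simple, normally generated by `P`. -/
theorem isSimple (hα : Fintype.card α = p)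
    (huniq : ∃! χ : Cfsg.IrrCharacter G, Cfsg.charDegree (χ : G → ℂ) = p) (P : Sylow p G)
    (hN : ∀ a ∈ Subgroup.normalizer ((P : Subgroup G) : Set G),
      ∀ b ∈ Subgroup.normalizer ((P : Subgroup G) : Set G), a * b * a⁻¹ * b⁻¹ ∈ (P : Subgroup G)) :
    Subgroup.normalClosure ((P : Subgroup G) : Set G) = ⊤ ∧ IsSimpleGroup G := by
  set M := Subgroup.normalClosure ((P : Subgroup G) : Set G)
  haveI : M.Normal := Subgroup.normalClosure_normal
  have hPM : (P : Subgroup G) ≤ M := Subgroup.le_normalClosure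
  have hMN : Subgroup.normalizer ((P : Subgroup G) : Set G) ⊔ M = ⊤ := by
    have h := Sylow.normalizer_sup_eq_top' P hPM
    exact h
  have hcomm : ∀ a b : G ⧸ M, a * b = b * a := by
    intro a b
    obtain ⟨a, rfl⟩ := QuotientGroup.mk_surjective a
    obtain ⟨b, rfl⟩ := QuotientGroup.mk_surjective b
    have hmem : ∀ g : G, ∃ n ∈ Subgroup.normalizer ((P : Subgroup G) : Set G),
        (g : G ⧸ M) = (n : G ⧸ M) := fun g => by
      obtain ⟨n, hn, m, hm, rfl⟩ := Subgroup.mem_sup_of_normal_right.1 (hMN ▸ Subgroup.mem_top g)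
      exact ⟨n, hn, by rw [QuotientGroup.mk_mul, (QuotientGroup.eq_one_iff m).2 hm, mul_one]⟩
    obtain ⟨a', ha', ea⟩ := hmem a
    obtain ⟨b', hb', eb⟩ := hmem b
    rw [ea, eb]
    have h1 : ((a' * b' * a'⁻¹ * b'⁻¹ : G) : G ⧸ M) = 1 :=
      (QuotientGroup.eq_one_iff _).2 (hPM (hN a' ha' b' hb'))
    rw [QuotientGroup.mk_mul, QuotientGroup.mk_mul, QuotientGroup.mk_mul, QuotientGroup.mk_inv,
      QuotientGroup.mk_inv, mul_inv_eq_one, mul_inv_eq_iff_eq_mul] at h1
    exact h1
  have hMtop : M = ⊤ := eq_top_iff.2 fun g _ => (QuotientGroup.eq_one_iff g).1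
    (hom_trivial hcomm (commutator_eq_top hα huniq) (QuotientGroup.mk' M) g)
  haveI : Nontrivial G := Finite.one_lt_card_iff_nontrivial.1
    (lt_of_lt_of_le hp.out.one_lt (Nat.le_of_dvd Nat.card_pos (dvd_card hα)))
  refine ⟨hMtop, ⟨fun L hL => or_iff_not_imp_left.2 fun hne => ?_⟩⟩
  exact top_unique (hMtop ▸ Subgroup.normalClosure_le_normal (normal_contains hα P hne))

/-- The hypotheses of the theorem. -/
structure Setting (G : Subgroup (Equiv.Perm α)) (p : ℕ) where
  P : Sylow p G
  E : Subgroup G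
  y : G
  x : G
  a : α
  e : ℕ
  hy : Subgroup.zpowers y = (P : Subgroup G)
  hx : Subgroup.zpowers x = E
  hxe : orderOf x = e
  hsup : (P : Subgroup G) ⊔ E = Subgroup.normalizer ((P : Subgroup G) : Set G)
  hinf : (P : Subgroup G) ⊓ E = ⊥
  hN : Nat.card (Subgroup.normalizer (E : Set G)) = 2 * e
  hTI : ∀ g : G, g ∉ Subgroup.normalizer (E : Set G) → E ⊓ E.map (MulAut.conj g).toMonoidHom = ⊥
  he2 : 2 ≤ e
  hep : e ∣ p - 1
  hNcard : Nat.card (Subgroup.normalizer ((P : Subgroup G) : Set G)) = p * e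
  hfix : ∀ g ∈ Subgroup.normalizer (E : Set G), g • a = a
  hfree : ∀ g ∈ E, g ≠ 1 → ∀ b : α, g • b = b → b = a
  hcent : ∀ g : G, g * y = y * g → g ∈ (P : Subgroup G)

/-- The data exist. -/
theorem exists_setting (hα : Fintype.card α = p)
    (huniq : ∃! χ : Cfsg.IrrCharacter G, Cfsg.charDegree (χ : G → ℂ) = p) (P : Sylow p G)
    (E : Subgroup G) (hPE : (P : Subgroup G) ⊔ E = Subgroup.normalizer ((P : Subgroup G) : Set G))
    (hPE' : (P : Subgroup G) ⊓ E = ⊥)
    (hNE : Nat.card (Subgroup.normalizer (E : Set G)) = 2 * Nat.card E)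
    (hTI : ∀ g : G, g ∉ Subgroup.normalizer (E : Set G) →
      E ⊓ E.map (MulAut.conj g).toMonoidHom = ⊥) :
    Nonempty (Setting G p) := by
  classical
  have hG := commutator_eq_top hα huniq
  have hP := card_sylow hα P
  haveI : Fact (Nat.Prime (Nat.card P)) := ⟨hP.symm ▸ hp.out⟩
  haveI : IsCyclic (P : Subgroup G) := isCyclic_of_prime_card rfl
  obtain ⟨y, hy⟩ := Subgroup.isCyclic_iff_exists_zpowers_eq_top (P : Subgroup G) |>.1 inferInstance
  have hyP : y ∈ (P : Subgroup G) := hy ▸ Subgroup.mem_zpowers y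
  have hyo : orderOf y = p := by rw [← Nat.card_zpowers, hy]; exact hP
  have hyo' : orderOf (y : Equiv.Perm α) = p := by rw [Subgroup.orderOf_coe, hyo]
  haveI : Nonempty α := Fintype.card_pos_iff.1 (hα ▸ hp.out.pos)
  obtain ⟨c, -, hc⟩ := Perm.PrimeDegree.exists_coords hα hyo' (Classical.arbitrary α)
  have hc' : ∀ i, y • c i = c (i + 1) := hc
  have hpow : ∀ (k : ℕ) i, y ^ k • c i = c (i + k) := fun k => by
    induction k with
    | zero => intro i; simp
    | succ k ih => intro i; rw [pow_succ, mul_smul, hc', ih, Nat.cast_succ]; congr 1; ring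
  have hcent : ∀ g : G, g * y = y * g → g ∈ (P : Subgroup G) := by
    intro g hg
    set m := c.symm (g • c 0)
    have : g = y ^ m.val := by
      refine eq_of_smul_eq_smul (α := α) fun b => ?_
      obtain ⟨i, rfl⟩ := c.surjective b
      rw [hpow, ZMod.natCast_zmod_val]
      have h1 : c i = y ^ i.val • c 0 := by rw [hpow, zero_add, ZMod.natCast_zmod_val]
      have hgc : Commute g (y ^ i.val) := (show Commute g y from hg).pow_right _
      rw [h1, ← mul_smul, hgc.eq, mul_smul, show g • c 0 = c m from (c.apply_symm_apply _).symm,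
        hpow, ZMod.natCast_zmod_val, add_comm]
    rw [this]
    exact pow_mem hyP _
  set N := Subgroup.normalizer ((P : Subgroup G) : Set G) with hNdef
  have hEN : E ≤ N := hPE ▸ le_sup_right
  obtain ⟨d, hd, hNd⟩ := Perm.card_normalizer_of_prime_degree (α := α)
    (by rw [Nat.card_eq_fintype_card, hα]) (P : Subgroup G) hP
  have hEd : Nat.card E = d := by
    have h := Coprime.card_sup_of_le_normalizer (H := E) (N := (P : Subgroup G)) hEN
      (by rw [inf_comm]; exact hPE')
    rw [sup_comm, hPE] at h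
    change Nat.card N = Nat.card E * Nat.card P at h
    rw [hNd, hP, mul_comm (Nat.card E)] at h
    exact (Nat.eq_of_mul_eq_mul_left hp.out.pos h).symm
  -- `E` embeds in the automorphisms of `P`
  let φ : E →* MulAut (P : Subgroup G) :=
    (Subgroup.normalizerMonoidHom (P : Subgroup G)).comp (Subgroup.inclusion hEN)
  have hφ : Function.Injective φ := (injective_iff_map_eq_one φ).2 fun g hg => by
    have h1 : (g : G) * y * (g : G)⁻¹ = y :=
      congrArg Subtype.val (DFunLike.congr_fun hg (⟨y, hyP⟩ : (P : Subgroup G)))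
    have h2 := hcent g (mul_inv_eq_iff_eq_mul.1 h1)
    exact Subtype.ext (Subgroup.mem_bot.1 (hPE' ▸ Subgroup.mem_inf.2 ⟨h2, g.2⟩))
  haveI : IsCyclic (MulAut (P : Subgroup G)) := by
    have e1 := IsCyclic.mulAutMulEquiv (P : Subgroup G)
    rw [hP] at e1
    exact e1.symm.isCyclic.1 inferInstance
  haveI : IsCyclic E := isCyclic_of_injective φ hφ
  obtain ⟨x, hx⟩ := Subgroup.isCyclic_iff_exists_zpowers_eq_top E |>.1 inferInstance
  have hxo : orderOf x = Nat.card E := by rw [← hx, Nat.card_zpowers]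
  -- `E` is non-trivial
  have hd2 : 2 ≤ d := by
    have hd0 : d ≠ 0 := fun h => by rw [h] at hEd; exact Nat.card_pos.ne' hEd
    by_contra hlt
    have hEbot : E = ⊥ := Subgroup.eq_bot_of_card_eq E (by omega)
    rw [hEbot, sup_bot_eq] at hPE
    refine not_normalizer_le_centralizer hG P (by rw [hP]; exact hp.out.ne_one) ?_
    intro g hg
    have hPN : (P : Subgroup G) = Subgroup.normalizer ((P : Subgroup G) : Set G) := hPE
    rw [← hPN, ← hy] at hg
    refine Subgroup.mem_centralizer_iff.2 fun u hu => ?_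
    rw [SetLike.mem_coe, ← hy] at hu
    obtain ⟨i, rfl⟩ := Subgroup.mem_zpowers_iff.1 hu
    obtain ⟨j, rfl⟩ := Subgroup.mem_zpowers_iff.1 hg
    exact (Commute.zpow_zpow (Commute.refl y) i j).eq
  have hEcomm : ∀ g ∈ E, ∀ g' ∈ E, g * g' = g' * g := fun g hg g' hg' => by
    rw [← hx] at hg hg'
    obtain ⟨i, rfl⟩ := Subgroup.mem_zpowers_iff.1 hg
    obtain ⟨j, rfl⟩ := Subgroup.mem_zpowers_iff.1 hg'
    exact (Commute.zpow_zpow (Commute.refl x) i j).eq
  have hone : ∀ g ∈ E, g ≠ 1 → ∀ b b' : α, g • b = b → g • b' = b' → b = b' := by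
    intro g hg hg1 b b' hb hb'
    by_contra hne
    obtain ⟨i, rfl⟩ := c.surjective b
    obtain ⟨j, rfl⟩ := c.surjective b'
    set k := (j - i).val
    have hk : y ^ k • c i = c j := by rw [hpow, ZMod.natCast_zmod_val, add_sub_cancel]
    have hmem : g * y ^ k * g⁻¹ ∈ (P : Subgroup G) :=
      (Subgroup.mem_normalizer_iff.1 (hEN hg) _).1 (pow_mem hyP k)
    rw [← hy] at hmem
    obtain ⟨n, hn⟩ := (isOfFinOrder_of_finite y).mem_powers_iff_mem_zpowers.2 hmem
    have hact : (g * y ^ k * g⁻¹) • c i = c j := by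
      rw [mul_smul, mul_smul, show g⁻¹ • c i = c i by rw [inv_smul_eq_iff, hb], hk, hb']
    rw [← hn] at hact
    simp only [hpow] at hact
    have hnk : (n : ZMod p) = (k : ZMod p) := by
      have := c.injective hact
      rw [ZMod.natCast_zmod_val, ← this]; ring
    have hyk : y ^ n = y ^ k := by
      refine pow_inj_mod.2 ?_
      rw [hyo]
      exact (ZMod.natCast_eq_natCast_iff' n k p).1 hnk
    have hcomm : g * y ^ k = y ^ k * g := by
      have h1 : g * y ^ k * g⁻¹ = y ^ k := hn.symm.trans hyk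
      exact mul_inv_eq_iff_eq_mul.1 h1
    have hne0 : (k : ZMod p) ≠ 0 := by
      rw [ZMod.natCast_zmod_val]; exact sub_ne_zero.2 fun h => hne (by rw [h])
    have hgy : g * y = y * g := by
      obtain ⟨m, hm⟩ : ∃ m, y = (y ^ k) ^ m := by
        refine ⟨((k : ZMod p)⁻¹).val, ?_⟩
        rw [← pow_mul]
        conv_lhs => rw [← pow_one y]
        refine pow_inj_mod.2 ?_
        rw [hyo]
        refine (ZMod.natCast_eq_natCast_iff' 1 _ p).1 ?_
        rw [Nat.cast_mul, ZMod.natCast_zmod_val ((k : ZMod p))⁻¹, Nat.cast_one, mul_inv_cancel₀ hne0]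
      rw [hm]
      exact ((show Commute g (y ^ k) from hcomm).pow_right m).eq
    exact hg1 (Subgroup.mem_bot.1 (hPE' ▸ Subgroup.mem_inf.2 ⟨hcent g hgy, hg⟩))
  -- a fixed point
  obtain ⟨a, g₀, hg₀, hg₀1, hga⟩ : ∃ a : α, ∃ g ∈ E, g ≠ 1 ∧ g • a = a := by
    by_contra hno
    push Not at hno
    have hstab : ∀ b : α, stabilizer E b = ⊥ := fun b => (Subgroup.eq_bot_iff_forall _).2 fun g hg =>
      by_contra fun h1 => hno b g g.2 (fun h => h1 (Subtype.ext h)) hg
    have hdp : d ∣ p := by
      rw [← hEd, ← hα, ← Nat.card_eq_fintype_card,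
        Nat.card_congr (selfEquivSigmaOrbits E α)]
      haveI := Fintype.ofFinite (Quotient (orbitRel E α))
      rw [Nat.card_sigma]
      refine Finset.dvd_sum fun q _ => ?_
      rw [Nat.card_congr (orbitEquivQuotientStabilizer E _), hstab]
      show Nat.card E ∣ (⊥ : Subgroup E).index
      rw [Subgroup.index_bot]
    rcases (Nat.dvd_prime hp.out).1 hdp with h | h
    · omega
    · have := Nat.le_of_dvd (by have := hp.out.two_le; omega) hd
      have := hp.out.two_le
      omega
  have hEa : ∀ g ∈ E, g • a = a := fun g hg => (hone g₀ hg₀ hg₀1 _ _ (by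
    rw [← mul_smul, hEcomm g₀ hg₀ g hg, mul_smul, hga]) hga)
  refine ⟨⟨P, E, y, x, a, Nat.card E, hy, hx, hxo, hPE, hPE', hNE, hTI, hEd.symm ▸ hd2, hEd.symm ▸ hd,
    hEd.symm ▸ hNd, fun g hg => ?_, fun g hg hg1 b hb => hone g hg hg1 b a hb (hEa g hg), hcent⟩⟩
  refine hone g₀ hg₀ hg₀1 _ _ ?_ hga
  have hw : g⁻¹ * g₀ * g ∈ E := (Subgroup.mem_normalizer_iff''.1 hg g₀).1 hg₀
  calc g₀ • g • a = g • (g⁻¹ * g₀ * g) • a := by rw [← mul_smul, ← mul_smul]; congr 1; group
    _ = g • a := by rw [hEa _ hw]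

end Cfsg.Agent.UniqueDegree
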