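import Cfsg.Agent.Lib.UniqueDegree.OddCase

/-!
# Prime degree, a unique character of degree `p` and a TI complement: `PSL(2, p)`, `p ∈ {5, 7, 11}`
-/

set_option autoImplicit false
set_option linter.style.haveILetI false

namespace Cfsg.Agent.UniqueDegree

open MulAction

variable {α : Type*} [Fintype α] [DecidableEq α] {p : ℕ} [hp : Fact p.Prime]
  {G : Subgroup (Equiv.Perm α)} [IsPretransitive G α]

theorem main (hα : Fintype.card α = p)
    (huniq : ∃! χ : Cfsg.IrrCharacter G, Cfsg.charDegree (χ : G → ℂ) = p) (P : Sylow p G)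
    (E : Subgroup G) (hPE : (P : Subgroup G) ⊔ E = Subgroup.normalizer ((P : Subgroup G) : Set G))
    (hPE' : (P : Subgroup G) ⊓ E = ⊥)
    (hNE : Nat.card (Subgroup.normalizer (E : Set G)) = 2 * Nat.card E)
    (hTI : ∀ g : G, g ∉ Subgroup.normalizer (E : Set G) →
      E ⊓ E.map (MulAut.conj g).toMonoidHom = ⊥) :
    (p = 5 ∨ p = 7 ∨ p = 11) ∧
      Nonempty (G ≃* Matrix.ProjectiveSpecialLinearGroup (Fin 2) (ZMod p)) := by
  obtain ⟨S⟩ := exists_setting hα huniq P E hPE hPE' hNE hTI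
  have hG := commutator_eq_top hα huniq
  have hEN : S.E ≤ Subgroup.normalizer ((S.P : Subgroup G) : Set G) := S.hsup ▸ le_sup_right
  obtain ⟨hgen, hsimple⟩ := isSimple hα huniq S.P (by
    intro a ha b hb
    rw [← S.hsup, sup_comm] at ha hb
    obtain ⟨u, hu, z, hz, rfl⟩ := (Coprime.mem_sup_iff_of_le_normalizer' hEN).1 ha
    obtain ⟨v, hv, w, hw, rfl⟩ := (Coprime.mem_sup_iff_of_le_normalizer' hEN).1 hb
    have hnorm : ∀ g ∈ S.E, ∀ q ∈ (S.P : Subgroup G), g * q * g⁻¹ ∈ (S.P : Subgroup G) :=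
      fun g hg q hq => (Subgroup.mem_normalizer_iff.1 (hEN hg) q).1 hq
    have e : u * z * (v * w) * (u * z)⁻¹ * (v * w)⁻¹ =
        u * (z * v * z⁻¹) * (w * u⁻¹ * w⁻¹) * v⁻¹ := by
      have hc : z * w * z⁻¹ = w := by rw [S.comm_E hz hw, mul_inv_cancel_right]
      calc u * z * (v * w) * (u * z)⁻¹ * (v * w)⁻¹
          = u * (z * v * z⁻¹) * (z * w * z⁻¹) * u⁻¹ * w⁻¹ * v⁻¹ := by group
        _ = u * (z * v * z⁻¹) * (w * u⁻¹ * w⁻¹) * v⁻¹ := by rw [hc]; group
    rw [e]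
    exact mul_mem (mul_mem (mul_mem hu (hnorm z hz v hv)) (hnorm w hw _ (inv_mem hu))) (inv_mem hv))
  haveI := hsimple
  rcases Nat.even_or_odd S.e with he | he
  · obtain ⟨h5, hiso⟩ := S.degree_five hα hG (not_isSolvable hα huniq) (even_iff_two_dvd.1 he)
    exact ⟨Or.inl h5, hiso⟩
  · exact S.psl_of_odd hα hG huniq hgen he

end Cfsg.Agent.UniqueDegree
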