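import Cfsg.Agent.Lib.UniqueDegree.Pieces
import Mathlib.LinearAlgebra.BilinearMap

/-!
# The module of dimension `p + 1`

A representation of dimension `p + 1` in characteristic `p` in which `x` has the characteristic
polynomial `(X ^ e - 1) ^ d (X - l) (X - l⁻¹)` with `l ≠ 1`, carrying a non-zero invariant bilinear
form, forces `p + 1` Sylow `p`-subgroups.

* `Datum.small_of_roots`: the statement.
* `Datum.not_irreducible`, `Datum.not_one`, `Datum.not_two`: the three ways of failing.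
-/

set_option autoImplicit false
set_option linter.style.haveILetI false
set_option linter.unusedSectionVars false

namespace Cfsg.Agent.UniqueDegree

open SmallDegree Module Polynomial DerivedLength

universe u v w

namespace Datum

variable {p : ℕ} [hp : Fact p.Prime] {G : Type u} [Group G] [Finite G] (D : Datum p G)
  {K : Type v} [Field K] [IsAlgClosed K] [CharP K p]

/-- The hypothesis on the roots. -/
structure Roots (d : ℕ) (l l' : K) : Prop where
  hde : d * D.e + 1 = p
  hl1 : l ≠ 1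
  hll : l * l' = 1
  hne : l ≠ l'

variable {D} {d : ℕ} {l l' : K}

theorem Roots.hl1' (h : D.Roots d l l') : l' ≠ 1 := fun h1 => h.hl1 (by
  have := h.hll
  rwa [h1, mul_one] at this)

theorem Roots.not_both (h : D.Roots d l l') {μ : K} (h1 : l = μ) (h2 : l' = μ) : False :=
  h.hne (h1.trans h2.symm)

variable (D)

theorem period_ne_zero (d : ℕ) : ((X : K[X]) ^ D.e - 1) ^ d ≠ 0 := by
  refine pow_ne_zero _ ?_
  rw [← map_one C]
  exact X_pow_sub_C_ne_zero (by have := D.h3; omega) 1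

theorem string_prod {μ : K} (hμ : μ ^ D.e = 1) {d : ℕ} {n : ℕ} (hn : n = d * D.e + 1) :
    ∏ j ∈ Finset.range n, (X - C ((D.a : K) ^ j * μ)) = (X ^ D.e - 1) ^ d * (X - C μ) := by
  rw [hn, prod_shift (by have := D.h3; omega) D.prim hμ]
  simp

variable {V : Type w} [AddCommGroup V] [Module K V] [FiniteDimensional K V]
  (θ : G →* Module.End K V)

theorem y_apply_of_A (w : V) (h : D.A θ w = 0) : θ D.y w = w := by
  rw [← D.tExp_A θ, tExp, LinearMap.sum_apply,
    Finset.sum_eq_single 0 (fun r _ hr => ?_) (fun h0 => absurd (Finset.mem_range.2 hp.out.pos) h0)]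
  · simp
  · obtain ⟨r, rfl⟩ := Nat.exists_eq_add_one_of_ne_zero hr
    rw [LinearMap.smul_apply, pow_succ, End.mul_apply, h, map_zero, smul_zero]

/-- The module is not trivial. -/
theorem not_triv (hR : D.Roots d l l')
    (hcp : (θ D.x).charpoly = (X ^ D.e - 1) ^ d * ((X - C l) * (X - C l'))) : ¬ D.Triv θ := by
  intro h
  rw [Triv, hcp] at h
  have := congrArg (eval l) h
  simp only [eval_mul, eval_pow, eval_sub, eval_X, eval_one, eval_C, sub_self, zero_mul,
    mul_zero] at this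
  exact hR.hl1 (sub_eq_zero.1 (eq_zero_of_pow_eq_zero this.symm))

/-- A module of dimension `p + 1` with an invariant form is reducible. -/
theorem not_irreducible (hd : finrank K V = p + 1) (hR : D.Roots d l l')
    (hcp : (θ D.x).charpoly = (X ^ D.e - 1) ^ d * ((X - C l) * (X - C l')))
    (b : V →ₗ[K] V →ₗ[K] K) (hb : b ≠ 0) (hinv : ∀ g u v, b (θ g u) (θ g v) = b u v)
    (hirr : ∀ W : Submodule K V, Invariant θ W → W = ⊥ ∨ W = ⊤) : False := by
  classical
  have hp7 := D.seven_le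
  have hy1 : θ D.y ≠ 1 := fun h => D.not_triv θ hR hcp (D.triv_of_y θ h)
  have hne : D.A θ ^ (p - 1) ≠ 0 := by
    intro hA
    have hT : (θ D.y - 1) ^ (p - 1) = 0 := by
      have h := (wOne_pow_eq K p (θ D.y) D.ne_two (n := p - 1)
        ((congrArg _ (Nat.sub_add_cancel hp.out.one_le)).trans (D.T_pow θ))).2
      rw [← h]; exact hA
    obtain ⟨v, μ, -, -, -, -, -, hli, -⟩ := D.irreducible_string θ hirr hy1 (Or.inr hT)
    refine hli.ne_zero ⟨p - 1, by omega⟩ ?_
    show (D.A θ ^ (p - 1)) v = 0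
    rw [hA, LinearMap.zero_apply]
  obtain ⟨v, μ, W, hμ, hv, hvn, hWA, hWx, hli, hcompl⟩ := exists_string (T := θ D.x) (A := D.A θ)
    D.e_ne_zero (D.x_pow θ) D.a_ne_zero (D.scale θ) (n := p - 1)
    (by rw [Nat.sub_add_cancel hp.out.one_le]; exact D.A_pow_p θ) hne
  set S := Submodule.span K (Set.range fun i : Fin (p - 1 + 1) => (D.A θ ^ (i : ℕ)) v) with hS
  have hW1 : finrank K W = 1 := by
    have h1 := Submodule.finrank_add_eq_of_isCompl hcompl
    rw [finrank_span_eq_card hli, Fintype.card_fin, hd] at h1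
    omega
  obtain ⟨⟨w, hw⟩, hw0', hgen⟩ := finrank_eq_one_iff'.1 hW1
  have hw0 : w ≠ 0 := fun h => hw0' (Subtype.ext h)
  have hmult : ∀ z ∈ W, ∃ c : K, c • w = z := fun z hz => by
    obtain ⟨c, hc⟩ := hgen ⟨z, hz⟩
    exact ⟨c, congrArg Subtype.val hc⟩
  have hAw : D.A θ w = 0 := by
    obtain ⟨c, hc⟩ := hmult _ (hWA w hw)
    have h1 : ∀ i : ℕ, (D.A θ ^ i) w = c ^ i • w := fun i => by
      induction i with
      | zero => simp
      | succ i ih => rw [pow_succ', End.mul_apply, ih, map_smul, ← hc, smul_smul, pow_succ]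
    have h2 := h1 p
    rw [D.A_pow_p θ, LinearMap.zero_apply] at h2
    rw [← hc, eq_zero_of_pow_eq_zero ((smul_eq_zero.1 h2.symm).resolve_right hw0), zero_smul]
  obtain ⟨ν, hν⟩ := hmult _ (hWx w hw)
  set s := (D.A θ ^ (p - 1)) v with hsdef
  have hAs : D.A θ s = 0 := by
    rw [hsdef, ← End.mul_apply, ← pow_succ', Nat.sub_add_cancel hp.out.one_le, D.A_pow_p θ,
      LinearMap.zero_apply]
  have hys := D.y_apply_of_A θ s hAs
  have hyw := D.y_apply_of_A θ w hAw
  -- fixed vectors are orthogonal to the image of `y - 1`, on both sides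
  have horth : ∀ z q, θ D.y q = q → b ((θ D.y - 1) z) q = 0 ∧ b q ((θ D.y - 1) z) = 0 := by
    intro z q hq
    have h1 := hinv D.y z q
    have h2 := hinv D.y q z
    rw [hq] at h1 h2
    rw [LinearMap.sub_apply, End.one_apply, map_sub, map_sub, LinearMap.sub_apply, h1, h2]
    simp
  have hArange : ∀ z, ∃ z', D.A θ z = (θ D.y - 1) z' := fun z => by
    obtain ⟨u, -, he⟩ := wOne_eq K p (θ D.y) D.ne_two
    exact ⟨(1 + (θ D.y - 1) * u) z, LinearMap.congr_fun he z⟩
  have hws : b w s = 0 := by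
    rw [hsdef, show p - 1 = p - 2 + 1 by omega, pow_succ', End.mul_apply]
    obtain ⟨z', hz'⟩ := hArange ((D.A θ ^ (p - 2)) v)
    rw [hz']
    exact (horth z' w hyw).2
  -- a vector orthogonal to `v`, `w` and the image of `y - 1` is zero
  have hrad : ∀ q, θ D.y q = q → b v q = 0 → b w q = 0 → q = 0 := by
    intro q hq hvq hwq
    have hall : ∀ z, b z q = 0 := by
      have hS' : ∀ z ∈ S, b z q = 0 := fun z hz => by
        have : S ≤ LinearMap.ker (b.flip q) := Submodule.span_le.2 (by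
          rintro _ ⟨⟨i, hi⟩, rfl⟩
          show b ((D.A θ ^ i) v) q = 0
          rcases i with _ | i
          · simpa using hvq
          · rw [pow_succ', End.mul_apply]
            obtain ⟨z', hz'⟩ := hArange ((D.A θ ^ i) v)
            rw [hz']
            exact (horth z' q hq).1)
        exact this hz
      intro z
      obtain ⟨z1, hz1, z2, hz2, rfl⟩ :=
        Submodule.mem_sup.1 (hcompl.sup_eq_top ▸ Submodule.mem_top (x := z))
      obtain ⟨c, rfl⟩ := hmult z2 hz2
      rw [map_add, LinearMap.add_apply, hS' z1 hz1, map_smul, LinearMap.smul_apply, hwq,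
        smul_zero, add_zero]
    let R : Submodule K V := LinearMap.ker b.flip
    have hRinv : Invariant θ R := fun g u hu => LinearMap.ext fun z => by
      have h1 : b (θ g⁻¹ z) u = 0 := LinearMap.congr_fun hu _
      have h2 := hinv g (θ g⁻¹ z) u
      rw [act_act_inv, h1] at h2
      exact h2
    have hqR : q ∈ R := LinearMap.ext fun z => hall z
    rcases hirr R hRinv with h | h
    · exact (Submodule.mem_bot K).1 (h ▸ hqR)
    · refine absurd (LinearMap.ext fun z => LinearMap.ext fun u => ?_) hb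
      have : u ∈ R := h ▸ Submodule.mem_top
      simpa using LinearMap.congr_fun this z
  have hsS : s ∈ S := Submodule.subset_span ⟨⟨p - 1, by omega⟩, rfl⟩
  have hdisj : ∀ c c' : K, c • s + c' • w = 0 → c = 0 ∧ c' = 0 := by
    intro c c' h
    have h1 : c • s = 0 := Submodule.disjoint_def.1 hcompl.disjoint _ (Submodule.smul_mem _ _ hsS) (by
      rw [eq_neg_of_add_eq_zero_left h]
      exact neg_mem (Submodule.smul_mem _ _ hw))
    rw [h1, zero_add] at h
    exact ⟨(smul_eq_zero.1 h1).resolve_right hvn, (smul_eq_zero.1 h).resolve_right hw0⟩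
  have hww : b w w ≠ 0 := by
    intro h0
    have hq := hrad ((b v w) • s + (-(b v s)) • w)
      (by rw [map_add, map_smul, map_smul, hys, hyw])
      (by simp only [map_add, map_smul, smul_eq_mul]; ring)
      (by simp [hws, h0])
    obtain ⟨-, h2⟩ := hdisj _ _ hq
    exact hvn (hrad s hys (neg_eq_zero.1 h2) hws)
  have hν1 : ν = 1 := by
    have h := hinv D.x w w
    rw [← hν, map_smul, map_smul, LinearMap.smul_apply, smul_eq_mul, smul_eq_mul, ← mul_assoc] at h
    have hνν : ν * ν = 1 := mul_right_cancel₀ hww (h.trans (one_mul _).symm)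
    have hνe : ν ^ D.e = 1 := by
      have h1 : ∀ i : ℕ, (θ D.x ^ i) w = ν ^ i • w := fun i => by
        induction i with
        | zero => simp
        | succ i ih => rw [pow_succ', End.mul_apply, ih, map_smul, ← hν, smul_smul, pow_succ]
      have h2 := h1 D.e
      rw [D.x_pow θ, End.one_apply] at h2
      exact smul_left_injective K hw0 (by simpa using h2.symm)
    obtain ⟨i, hi⟩ := D.hodd
    rwa [hi, pow_succ, pow_mul, pow_two, hνν, one_pow, one_mul] at hνe
  -- the characteristic polynomial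
  let f : Fin (p - 1 + 1) ⊕ Fin 1 → V := Sum.elim (fun i => (D.A θ ^ (i : ℕ)) v) fun _ => w
  have hfli : LinearIndependent K f := by
    refine hli.sum_type (LinearIndependent.of_subsingleton (v := fun _ : Fin 1 => w) 0 hw0) ?_
    refine Disjoint.mono le_rfl ?_ hcompl.disjoint
    exact Submodule.span_le.2 (by rintro _ ⟨i, rfl⟩; exact hw)
  have hfsp : ⊤ ≤ Submodule.span K (Set.range f) := by
    intro z _
    obtain ⟨z1, hz1, z2, hz2, rfl⟩ :=
      Submodule.mem_sup.1 (hcompl.sup_eq_top ▸ Submodule.mem_top (x := z))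
    obtain ⟨c, rfl⟩ := hmult z2 hz2
    refine add_mem (Submodule.span_mono (by rintro _ ⟨i, rfl⟩; exact ⟨Sum.inl i, rfl⟩) hz1)
      (Submodule.smul_mem _ _ (Submodule.subset_span ⟨Sum.inr 0, rfl⟩))
  have hch : (θ D.x).charpoly =
      (∏ j ∈ Finset.range (p - 1 + 1), (X - C ((D.a : K) ^ j * μ))) * (X - 1) := by
    rw [charpoly_of_eigenbasis (Basis.mk hfli hfsp)
      (c := Sum.elim (fun i => (D.a : K) ^ (i : ℕ) * μ) fun _ => 1) (fun i => by
        rw [Basis.mk_apply]
        rcases i with i | i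
        · exact apply_string (D.scale θ) hv i
        · show θ D.x w = (1 : K) • w
          rw [← hν, hν1]),
      Fintype.prod_sum_type]
    simp only [Sum.elim_inl, Sum.elim_inr, map_one, Finset.univ_unique, Finset.prod_singleton]
    rw [Fin.prod_univ_eq_prod_range (fun j => X - C ((D.a : K) ^ j * μ))]
  rw [D.string_prod hμ (d := d) (by have := hR.hde; omega), hcp, mul_assoc] at hch
  have := congrArg (eval (1 : K)) (mul_left_cancel₀ (D.period_ne_zero d) hch)
  simp only [eval_mul, eval_sub, eval_X, eval_C, eval_one, sub_self, mul_zero] at this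
  rcases mul_eq_zero.1 this with h | h
  · exact hR.hl1 (sub_eq_zero.1 h).symm
  · exact hR.hl1' (sub_eq_zero.1 h).symm

/-- One large constituent is impossible. -/
theorem not_one (hd : finrank K V = p + 1) (hR : D.Roots d l l')
    (hcp : (θ D.x).charpoly = (X ^ D.e - 1) ^ d * ((X - C l) * (X - C l'))) : ¬ D.One θ := by
  rintro ⟨U, _, _, _, φ, hirr, hy1, -, hUp, -, hch⟩
  obtain ⟨v, μ, hs⟩ := D.irreducible_string φ hirr hy1 (Or.inl hUp)
  rw [hcp, hs.charpoly D φ] at hch
  set s := finrank K U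
  have hm : finrank K V - s ≠ 0 := by omega
  set R := ∏ j ∈ Finset.Ico s p, (X - C ((D.a : K) ^ j * μ))
  have hall := Finset.prod_range_mul_prod_Ico (fun j => X - C ((D.a : K) ^ j * μ)) hUp
  rw [D.string_prod hs.1 (d := d) hR.hde.symm] at hall
  have h2 : (X ^ D.e - 1) ^ d * ((X - C l) * (X - C l') * R) =
      (X ^ D.e - 1) ^ d * ((X - 1) ^ (finrank K V - s) * (X - C μ)) := by
    rw [← mul_assoc, hch, mul_assoc, hall]
    ring
  have h3 := mul_left_cancel₀ (D.period_ne_zero d) h2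
  have el := congrArg (eval l) h3
  have el' := congrArg (eval l') h3
  simp only [eval_mul, eval_pow, eval_sub, eval_X, eval_C, eval_one, sub_self, zero_mul,
    mul_zero] at el el'
  refine hR.not_both (μ := μ) ?_ ?_
  · exact sub_eq_zero.1 ((mul_eq_zero.1 el.symm).resolve_left
      (pow_ne_zero _ (sub_ne_zero.2 hR.hl1)))
  · exact sub_eq_zero.1 ((mul_eq_zero.1 el'.symm).resolve_left
      (pow_ne_zero _ (sub_ne_zero.2 hR.hl1')))

/-- Two constituents of dimension `(p + 1) / 2` are impossible. -/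
theorem not_two (hR : D.Roots d l l')
    (hcp : (θ D.x).charpoly = (X ^ D.e - 1) ^ d * ((X - C l) * (X - C l'))) : ¬ D.Two θ := by
  classical
  rintro ⟨U₁, _, _, _, φ₁, U₂, _, _, _, φ₂, hi₁, hi₂, hy₁, hy₂, hs₁, hs₂, hch⟩
  have hp7 := D.seven_le
  obtain ⟨v₁, μ₁, h₁⟩ := D.irreducible_string φ₁ hi₁ hy₁ (Or.inl (by omega))
  obtain ⟨v₂, μ₂, h₂⟩ := D.irreducible_string φ₂ hi₂ hy₂ (Or.inl (by omega))
  obtain ⟨s, hs⟩ : ∃ s, finrank K U₁ = s := ⟨_, rfl⟩
  rw [hs] at h₁ hs₁
  rw [show finrank K U₂ = s by omega] at h₂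
  obtain ⟨c, hc⟩ : ∃ c, d = c + c := by
    by_contra hne
    push Not at hne
    obtain ⟨i, hi⟩ : Odd d := Nat.not_even_iff_odd.1 fun ⟨c, hc⟩ => hne c hc
    obtain ⟨j, hj⟩ := D.hodd
    obtain ⟨m, hm⟩ := hp.out.odd_of_ne_two D.ne_two
    have := hR.hde
    rw [hi, hj] at this
    have : (2 * i + 1) * (2 * j + 1) = 2 * (2 * i * j + i + j) + 1 := by ring
    omega
  have hsc : s = c * D.e + 1 := by
    have := hR.hde
    rw [hc, add_mul] at this
    omega
  have hc₁ : (φ₁ D.x).charpoly = (X ^ D.e - 1) ^ c * (X - C μ₁) := by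
    rw [h₁.charpoly D φ₁, D.string_prod h₁.1 hsc]
  have hc₂ : (φ₂ D.x).charpoly = (X ^ D.e - 1) ^ c * (X - C μ₂) := by
    rw [h₂.charpoly D φ₂, D.string_prod h₂.1 hsc]
  have hμμ : μ₁ ≠ μ₂ := by
    intro he
    have h3 : (X - C l) * (X - C l') = (X - C μ₁) * (X - C μ₂) := by
      refine mul_left_cancel₀ (D.period_ne_zero d) ?_
      rw [← hcp, hch, hc₁, hc₂, hc, pow_add]
      ring
    have el := congrArg (eval l) h3
    have el' := congrArg (eval l') h3
    simp only [← he, eval_mul, eval_sub, eval_X, eval_C, sub_self, zero_mul, mul_zero] at el el'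
    exact hR.not_both (sub_eq_zero.1 (mul_self_eq_zero.1 el.symm))
      (sub_eq_zero.1 (mul_self_eq_zero.1 el'.symm))
  obtain ⟨-, hv₁, hT₁, hA₁, -, hli₁, hsp₁⟩ := h₁
  obtain ⟨hμ₂, hv₂, hT₂, hA₂, hAT₂, hli₂, hsp₂⟩ := h₂
  have he0 : D.e ≠ 0 := by have := D.h3; omega
  have hμ₂0 : μ₂ ≠ 0 := fun h => by rw [h, zero_pow he0] at hμ₂; exact zero_ne_one hμ₂
  haveI : NeZero D.e := ⟨he0⟩
  obtain ⟨j, hje, hj⟩ := (D.prim (K := K)).eq_pow_of_pow_eq_one (ξ := μ₁ / μ₂) (by
    rw [div_pow, hμ₂, div_one]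
    have := congrArg (fun f : Module.End K U₁ => f v₁) (D.x_pow φ₁)
    have hiter : ∀ i : ℕ, (φ₁ D.x ^ i) v₁ = μ₁ ^ i • v₁ := fun i => by
      induction i with
      | zero => simp
      | succ i ih => rw [pow_succ', End.mul_apply, ih, map_smul, hv₁, smul_smul, pow_succ]
    rw [show (φ₁ D.x ^ D.e) v₁ = μ₁ ^ D.e • v₁ from hiter _, End.one_apply] at this
    exact smul_left_injective K (by simpa using hli₁.ne_zero ⟨0, by omega⟩) (by simpa using this))
  have hjμ : (D.a : K) ^ j * μ₂ = μ₁ := by rw [hj, div_mul_cancel₀ _ hμ₂0]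
  have hje' : j + 2 ≤ s := by
    rcases c with _ | c
    · have := hR.hde; rw [hc, add_zero, zero_mul] at this; omega
    · rw [Nat.succ_mul] at hsc; omega
  -- the intertwiner of the normaliser
  let b₁ := Basis.mk hli₁ hsp₁.ge
  let f : U₁ →ₗ[K] U₂ := b₁.constr K fun i => (D.A φ₂ ^ ((i : ℕ) + j)) v₂
  have hf : ∀ i : ℕ, f ((D.A φ₁ ^ i) v₁) = (D.A φ₂ ^ (i + j)) v₂ := by
    intro i
    by_cases hi : i < s
    · have := b₁.constr_basis K (fun i => (D.A φ₂ ^ ((i : ℕ) + j)) v₂) ⟨i, hi⟩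
      rwa [Basis.mk_apply] at this
    · rw [pow_eq_zero_of_le (by omega) hA₁, pow_eq_zero_of_le (by omega) hA₂, LinearMap.zero_apply,
        LinearMap.zero_apply, map_zero]
  have hfA : ∀ u, f (D.A φ₁ u) = D.A φ₂ (f u) := fun u => by
    have : f.comp (D.A φ₁) = (D.A φ₂).comp f := b₁.ext fun i => by
      rw [LinearMap.comp_apply, LinearMap.comp_apply, Basis.mk_apply, ← End.mul_apply, ← pow_succ',
        hf, hf, ← End.mul_apply, ← pow_succ', show (i : ℕ) + 1 + j = (i : ℕ) + j + 1 by omega]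
    exact LinearMap.congr_fun this u
  have hfx : ∀ u, f (φ₁ D.x u) = φ₂ D.x (f u) := fun u => by
    have : f.comp (φ₁ D.x) = (φ₂ D.x).comp f := b₁.ext fun i => by
      rw [LinearMap.comp_apply, LinearMap.comp_apply, Basis.mk_apply, apply_string (D.scale φ₁) hv₁,
        map_smul, hf, apply_string (D.scale φ₂) hv₂, pow_add (D.a : K), mul_assoc, hjμ]
    exact LinearMap.congr_fun this u
  have hfy : ∀ u, f (φ₁ D.y u) = φ₂ D.y (f u) := fun u => by
    have hpw : ∀ (r : ℕ) (u : U₁), f ((D.A φ₁ ^ r) u) = (D.A φ₂ ^ r) (f u) := fun r => by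
      induction r with
      | zero => intro u; simp
      | succ r ih => intro u; rw [pow_succ, End.mul_apply, ih, hfA, pow_succ, End.mul_apply]
    rw [← D.tExp_A φ₁, ← D.tExp_A φ₂]
    simp only [tExp, LinearMap.sum_apply, LinearMap.smul_apply, map_sum, map_smul, hpw]
  have hfn : ∀ n ∈ Subgroup.normalizer (D.P : Set G), ∀ u, f (φ₁ n u) = φ₂ n (f u) := by
    have hpow : ∀ g : G, (∀ u, f (φ₁ g u) = φ₂ g (f u)) → ∀ (i : ℕ) (u : U₁),
        f (φ₁ (g ^ i) u) = φ₂ (g ^ i) (f u) := fun g hg i => by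
      induction i with
      | zero => intro u; rw [pow_zero, act_one, act_one]
      | succ i ih => intro u; rw [pow_succ, act_mul, ih, hg, act_mul]
    intro n hn u
    obtain ⟨i, m, rfl⟩ := D.hN n hn
    rw [act_mul, hpow _ hfy, hpow _ hfx, act_mul]
  -- the product module
  let Φ : G →* Module.End K (U₁ × U₂) :=
    { toFun := fun g => (φ₁ g).prodMap (φ₂ g)
      map_one' := by rw [map_one, map_one]; exact LinearMap.prodMap_one
      map_mul' := fun g h => by rw [map_mul, map_mul]; rfl }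
  let π : Module.End K (U₁ × U₂) := (LinearMap.inr K U₁ U₂).comp (f.comp (LinearMap.fst K U₁ U₂))
  have hπN : ∀ n ∈ Subgroup.normalizer (D.P : Set G), Φ n * π = π * Φ n := fun n hn =>
    LinearMap.ext fun z => Prod.ext (map_zero (φ₁ n)) (hfn n hn z.1).symm
  have hTi : ∀ (i : ℕ) (z : U₁ × U₂), ((Φ D.y - 1) ^ i) z =
      (((φ₁ D.y - 1) ^ i) z.1, ((φ₂ D.y - 1) ^ i) z.2) := fun i => by
    induction i with
    | zero => intro z; rfl
    | succ i ih =>
      intro z
      rw [pow_succ, End.mul_apply, ih, pow_succ, pow_succ]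
      rfl
  obtain ⟨z, hz⟩ := relTr_sub_apply_mem D.P_le D.hP D.hy Φ (free_of_normalizer D.hP D.hsq) π hπN
    (l := s) (v := (v₁, 0)) (by rw [hTi, hT₁, LinearMap.zero_apply, map_zero]; rfl)
  let ψ : U₁ →ₗ[K] U₂ := (LinearMap.snd K U₁ U₂).comp
    ((relTr Φ (Subgroup.normalizer (D.P : Set G)) π).comp (LinearMap.inl K U₁ U₂))
  have hψ : ∀ g u, ψ (φ₁ g u) = φ₂ g (ψ u) := fun g u => by
    have h := LinearMap.congr_fun (relTr_comm Φ π hπN g) (u, 0)
    simp only [End.mul_apply] at h
    have h' := congrArg Prod.snd h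
    show (relTr Φ _ π (φ₁ g u, 0)).2 = φ₂ g (relTr Φ _ π (u, 0)).2
    rw [show ((φ₁ g u, 0) : U₁ × U₂) = Φ g (u, 0) from Prod.ext rfl (map_zero (φ₂ g)).symm]
    exact h'.symm
  have hψ0 : ψ = 0 := by
    by_contra hne
    rcases hi₁ (LinearMap.ker ψ) (fun g u hu => by
      rw [LinearMap.mem_ker] at hu ⊢; rw [hψ, hu, map_zero]) with hk | hk
    · rcases hi₂ (LinearMap.range ψ) (fun g u hu => by
        obtain ⟨u, rfl⟩ := hu; exact ⟨φ₁ g u, hψ g u⟩) with hr | hr
      · exact hne (LinearMap.range_eq_bot.1 hr)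
      · let e := LinearEquiv.ofBijective ψ ⟨LinearMap.ker_eq_bot.1 hk, LinearMap.range_eq_top.1 hr⟩
        have he : φ₂ D.x = e.conj (φ₁ D.x) := by
          refine LinearMap.ext fun z => ?_
          obtain ⟨u, rfl⟩ := e.surjective z
          rw [LinearEquiv.conj_apply_apply, LinearEquiv.symm_apply_apply]
          exact (hψ D.x u).symm
        have h := hc₂
        rw [he, LinearEquiv.charpoly_conj, hc₁] at h
        have := congrArg (eval μ₁) (mul_left_cancel₀ (D.period_ne_zero c) h)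
        simp only [eval_sub, eval_X, eval_C, sub_self] at this
        exact hμμ (sub_eq_zero.1 this.symm)
    · exact hne (LinearMap.ker_eq_top.1 hk)
  have h2 := congrArg Prod.snd hz
  rw [hTi] at h2
  have h3 : ((φ₂ D.y - 1) ^ (p - s)) z.2 = ψ v₁ - f v₁ := h2
  rw [hψ0, LinearMap.zero_apply, zero_sub, show p - s = s - 1 by omega, ← hAT₂] at h3
  have hf0 : f v₁ = (D.A φ₂ ^ j) v₂ := by simpa using hf 0
  let b₂ := Basis.mk hli₂ hsp₂.ge
  have hA2 : (D.A φ₂ ^ (s - 1)) z.2 = (b₂.repr z.2 ⟨0, by omega⟩) • (D.A φ₂ ^ (s - 1)) v₂ := by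
    conv_lhs => rw [← b₂.sum_repr z.2]
    rw [map_sum, Finset.sum_eq_single (⟨0, by omega⟩ : Fin s)]
    · rw [map_smul, Basis.mk_apply]; simp
    · intro i _ hi
      have hi0 : (i : ℕ) ≠ 0 := fun h => hi (Fin.ext h)
      rw [map_smul, Basis.mk_apply, ← End.mul_apply, ← pow_add, pow_eq_zero_of_le (by omega) hA₂,
        LinearMap.zero_apply, smul_zero]
    · exact fun h => absurd (Finset.mem_univ _) h
  rw [hA2, hf0] at h3
  have h4 := Fintype.linearIndependent_iff.1 hli₂
    (Pi.single ⟨j, by omega⟩ 1 + Pi.single ⟨s - 1, by omega⟩ (b₂.repr z.2 ⟨0, by omega⟩)) (by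
      simp only [Pi.add_apply, add_smul, Finset.sum_add_distrib, Pi.single_apply, ite_smul, zero_smul,
        Finset.sum_ite_eq', Finset.mem_univ, if_true, one_smul]
      rw [h3]
      simp) ⟨j, by omega⟩
  have hne : (⟨j, by omega⟩ : Fin s) ≠ ⟨s - 1, by omega⟩ :=
    fun h => absurd (congrArg Fin.val h) (by simp only; omega)
  simp [hne] at h4

/-- `p + 1` Sylow subgroups. -/
theorem small_of_roots [IsSimpleGroup G] (hd : finrank K V = p + 1) (hR : D.Roots d l l')
    (hcp : (θ D.x).charpoly = (X ^ D.e - 1) ^ d * ((X - C l) * (X - C l')))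
    (b : V →ₗ[K] V →ₗ[K] K) (hb : b ≠ 0) (hinv : ∀ g u v, b (θ g u) (θ g v) = b u v) :
    D.Small := by
  by_cases hirr : ∀ W : Submodule K V, Invariant θ W → W = ⊥ ∨ W = ⊤
  · exact (D.not_irreducible θ hd hR hcp b hb hinv hirr).elim
  rcases D.reducible_cases θ hd hirr with h | h | h | h
  · exact h
  · exact absurd h (D.not_triv θ hR hcp)
  · exact absurd h (D.not_one θ hd hR hcp)
  · exact absurd h (D.not_two θ hR hcp)

end Datum

end Cfsg.Agent.UniqueDegree
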