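import Cfsg.Agent.Lib.UniqueDegree.Strings
import Mathlib.RingTheory.RootsOfUnity.Complex
import Mathlib.Analysis.Complex.Polynomial.Basic

/-!
# An operator of order `e` is determined by the traces of its powers
-/

set_option autoImplicit false

namespace Cfsg.Agent.UniqueDegree

open Polynomial Module

universe w

/-- Multiplicities from power sums. -/
theorem count_eq_sum {e : ℕ} (μ : ℂ) (hμ : μ ^ e = 1) (he : e ≠ 0) (S : Multiset ℂ)
    (hS : ∀ s ∈ S, s ^ e = 1) :
    ∑ j ∈ Finset.range e, μ⁻¹ ^ j * (S.map (· ^ j)).sum = (e : ℂ) * S.count μ := by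
  induction S using Multiset.induction with
  | empty => simp
  | cons a S ih =>
    have ha : a ^ e = 1 := hS a (Multiset.mem_cons_self a S)
    have hμ0 : μ ≠ 0 := fun h => by rw [h, zero_pow he] at hμ; exact zero_ne_one hμ
    simp only [Multiset.map_cons, Multiset.sum_cons, mul_add, Finset.sum_add_distrib,
      ih fun s hs => hS s (Multiset.mem_cons_of_mem hs), ← mul_pow]
    by_cases h : μ = a
    · subst h
      rw [inv_mul_cancel₀ hμ0, Multiset.count_cons_self]
      simp
      ring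
    · have hne : μ⁻¹ * a - 1 ≠ 0 := sub_ne_zero.2 fun h1 => h ((inv_mul_eq_one₀ hμ0).1 h1)
      rw [(mul_eq_zero.1 (show (μ⁻¹ * a - 1) * ∑ j ∈ Finset.range e, (μ⁻¹ * a) ^ j = 0 by
        rw [mul_geom_sum, mul_pow, inv_pow, hμ, ha]; simp)).resolve_left hne,
        Multiset.count_cons_of_ne h, zero_add]

/-- The characteristic polynomial. -/
theorem charpoly_of_traces {V : Type w} [AddCommGroup V] [Module ℂ V] [FiniteDimensional ℂ V]
    (f : End ℂ V) {e d : ℕ} (he : e ≠ 0) (hf : f ^ e = 1) {l : ℂ} (hl : l ^ e = 1)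
    (htr : ∀ i : ℕ, LinearMap.trace ℂ V (f ^ i) =
      (if e ∣ i then ((d * e : ℕ) : ℂ) else 0) + l ^ i + l⁻¹ ^ i) :
    f.charpoly = (X ^ e - 1) ^ d * ((X - C l) * (X - C l⁻¹)) := by
  classical
  obtain ⟨b, c, hb⟩ := exists_eigenbasis (f := f) (Nat.cast_ne_zero.2 he) hf
  obtain ⟨ω, hω⟩ : ∃ ω : ℂ, IsPrimitiveRoot ω e := ⟨_, Complex.isPrimitiveRoot_exp e he⟩
  set S : Multiset ℂ := Finset.univ.val.map c
  set R : Multiset ℂ := (Finset.range e).val.map (ω ^ ·)
  set T : Multiset ℂ := d • R + {l, l⁻¹}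
  have hSe : ∀ s ∈ S, s ^ e = 1 := fun s hs => by
    obtain ⟨i, -, rfl⟩ := Multiset.mem_map.1 hs
    exact (hb i).2
  have hTe : ∀ s ∈ T, s ^ e = 1 := fun s hs => by
    rcases Multiset.mem_add.1 hs with h | h
    · obtain ⟨i, -, rfl⟩ := Multiset.mem_map.1 (Multiset.mem_of_mem_nsmul h)
      rw [← pow_mul, mul_comm, pow_mul, hω.pow_eq_one, one_pow]
    · simp only [Multiset.insert_eq_cons, Multiset.mem_cons, Multiset.mem_singleton] at h
      rcases h with rfl | rfl
      · exact hl
      · rw [inv_pow, hl, inv_one]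
  have hpow : ∀ j : ℕ, (S.map (· ^ j)).sum = (T.map (· ^ j)).sum := fun j => by
    have h1 : (S.map (· ^ j)).sum = ∑ i, c i ^ j := by
      rw [Multiset.map_map]; rfl
    have h2 : (R.map (· ^ j)).sum = if e ∣ j then (e : ℂ) else 0 := by
      rw [Multiset.map_map]
      show ∑ i ∈ Finset.range e, (ω ^ i) ^ j = _
      simp only [← pow_mul, mul_comm _ j]
      simp only [pow_mul]
      split_ifs with h
      · simp [(hω.pow_eq_one_iff_dvd j).2 h]
      · have hne : ω ^ j - 1 ≠ 0 := sub_ne_zero.2 fun h1 => h ((hω.pow_eq_one_iff_dvd j).1 h1)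
        exact (mul_eq_zero.1 (show (ω ^ j - 1) * ∑ i ∈ Finset.range e, (ω ^ j) ^ i = 0 by
          rw [mul_geom_sum, ← pow_mul, mul_comm j, pow_mul, hω.pow_eq_one, one_pow,
            sub_self])).resolve_left hne
    rw [h1, ← trace_pow_of_eigenbasis b (fun i => (hb i).1) j, htr j]
    simp only [T, Multiset.map_add, Multiset.map_nsmul, Multiset.sum_add, Multiset.sum_nsmul, h2,
      Multiset.insert_eq_cons, Multiset.map_cons, Multiset.sum_cons, Multiset.map_singleton,
      Multiset.sum_singleton, nsmul_eq_mul]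
    split_ifs <;> push_cast <;> ring
  have hST : S = T := Multiset.ext.2 fun μ => by
    by_cases hμ : μ ^ e = 1
    · have h1 := count_eq_sum μ hμ he S hSe
      have h2 := count_eq_sum μ hμ he T hTe
      rw [Finset.sum_congr rfl fun j _ => by rw [hpow j], h2] at h1
      exact_mod_cast (mul_left_cancel₀ (Nat.cast_ne_zero.2 he) h1).symm
    · rw [Multiset.count_eq_zero.2 fun h => hμ (hSe μ h), Multiset.count_eq_zero.2 fun h => hμ (hTe μ h)]
  have hprod : (∏ i, (X - C (c i))) = (S.map fun s => X - C s).prod := by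
    rw [Multiset.map_map]; rfl
  have hR : (R.map fun s => X - C s).prod = X ^ e - 1 := by
    rw [Multiset.map_map]
    show ∏ i ∈ Finset.range e, (X - C (ω ^ i)) = _
    rw [← map_one C, X_pow_sub_C_eq_prod hω (by omega) (one_pow e)]
    simp
  rw [charpoly_of_eigenbasis b fun i => (hb i).1, hprod, hST]
  simp [T, Multiset.map_nsmul, Multiset.prod_nsmul, hR]
  ring

end Cfsg.Agent.UniqueDegree
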