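import Cfsg.Agent.Lib.SmallDegree.Reduction
import Mathlib.LinearAlgebra.Matrix.BilinearForm

/-!
# Reduction modulo `p` keeping a characteristic polynomial and an invariant form
-/

set_option autoImplicit false

namespace Cfsg.Agent.UniqueDegree

open Polynomial Matrix

universe u

variable {G : Type u} [Group G] [Finite G] {n : ℕ}

/-- A form with entries in the valuation ring, one of them `1`. -/
theorem exists_scaled (A : ValuationSubring ℂ) {N : Matrix (Fin n) (Fin n) ℂ} (hN : N ≠ 0) :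
    ∃ (t : ℂ) (N' : Matrix (Fin n) (Fin n) A), A.subtype.mapMatrix N' = t • N ∧ ∃ i j, N' i j = 1 := by
  classical
  obtain ⟨i₀, j₀, h₀⟩ : ∃ i j, N i j ≠ 0 := by
    by_contra h
    push Not at h
    exact hN (Matrix.ext h)
  obtain ⟨⟨i, j⟩, -, hmax⟩ := Finset.exists_max_image Finset.univ
    (fun q : Fin n × Fin n => A.valuation (N q.1 q.2)) ⟨(i₀, j₀), Finset.mem_univ _⟩
  have hne : N i j ≠ 0 := fun h => by
    have := hmax (i₀, j₀) (Finset.mem_univ _)
    simp only [h, map_zero, le_zero_iff, map_eq_zero] at this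
    exact h₀ this
  have hmem : ∀ a b, (N i j)⁻¹ * N a b ∈ A := fun a b => by
    rw [← A.valuation_le_one_iff, map_mul, map_inv₀, inv_mul_le_iff₀
      (zero_lt_iff.2 ((_root_.map_ne_zero _).2 hne)), mul_one]
    exact hmax (a, b) (Finset.mem_univ _)
  exact ⟨(N i j)⁻¹, Matrix.of fun a b => ⟨_, hmem a b⟩, rfl, i, j, Subtype.ext (inv_mul_cancel₀ hne)⟩

/-- Reduction modulo `p` of the data. -/
theorem exists_reduced (p : ℕ) [hp : Fact p.Prime] (M : G →* Matrix (Fin n) (Fin n) ℂ) (x : G)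
    {e d : ℕ} (hpe : ¬ p ∣ e) {l : ℂ} (hl : l ^ e = 1) (hl2 : l ^ 2 ≠ 1) (hodd : Odd e)
    (hcp : (M x).charpoly = (X ^ e - 1) ^ d * ((X - C l) * (X - C l⁻¹)))
    {M₀ : Matrix (Fin n) (Fin n) ℂ} (hM₀ : M₀ ≠ 0) (hinv : ∀ g, (M g)ᵀ * M₀ * M g = M₀) :
    ∃ (k : Type) (_ : Field k) (_ : IsAlgClosed k) (_ : CharP k p)
      (θ : G →* Module.End k (Fin n → k)) (m m' : k) (b : (Fin n → k) →ₗ[k] (Fin n → k) →ₗ[k] k),
      m ≠ 1 ∧ m * m' = 1 ∧ m ≠ m' ∧
        (θ x).charpoly = (X ^ e - 1) ^ d * ((X - C m) * (X - C m')) ∧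
        b ≠ 0 ∧ ∀ g u v, b (θ g u) (θ g v) = b u v := by
  classical
  haveI := Fintype.ofFinite G
  obtain ⟨A, hpA⟩ := SmallDegree.exists_valuationSubring p hp.out
  obtain ⟨B, hB, hint⟩ := Char.ModularTrace.exists_integral_basis A M
  let R : G →* Matrix (Fin n) (Fin n) A :=
    { toFun := fun g => Matrix.of fun i j => ⟨(B⁻¹ * M g * B) i j, hint g i j⟩
      map_one' := by
        ext i j
        simp [Matrix.nonsing_inv_mul B hB, Matrix.one_apply]
        split_ifs <;> simp
      map_mul' := fun g h => by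
        refine Matrix.map_injective (f := A.subtype) Subtype.val_injective ?_
        simp only
        rw [Matrix.map_mul]
        show B⁻¹ * M (g * h) * B = (B⁻¹ * M g * B) * (B⁻¹ * M h * B)
        rw [map_mul]
        simp [mul_assoc, Matrix.mul_nonsing_inv_cancel_left B _ hB] }
  have hR : ∀ g, A.subtype.mapMatrix (R g) = B⁻¹ * M g * B := fun g => rfl
  let k0 := IsLocalRing.ResidueField A
  haveI : CharP k0 p := by
    refine CharP.charP_iff_prime_eq_zero hp.out |>.2 ?_
    rw [← map_natCast (IsLocalRing.residue A)]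
    exact (IsLocalRing.residue_eq_zero_iff _).2 hpA
  let k := AlgebraicClosure k0
  haveI : CharP k p := charP_of_injective_algebraMap (algebraMap k0 k).injective p
  let f : A →+* k := (algebraMap k0 k).comp (IsLocalRing.residue A)
  let θ : G →* Module.End k (Fin n → k) :=
    ((Matrix.toLinAlgEquiv' : Matrix (Fin n) (Fin n) k ≃ₐ[k] _).toAlgHom.toMonoidHom.comp
      f.mapMatrix.toMonoidHom).comp R
  -- the roots of unity
  have hroot : ∀ ζ : ℂ, ζ ^ e = 1 → ζ ∈ A := fun ζ hζ => by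
    rcases A.mem_or_inv_mem ζ with h | h
    · exact h
    · have he0 : e ≠ 0 := fun h0 => hpe (h0 ▸ dvd_zero p)
      have : ζ = ζ⁻¹ ^ (e - 1) := by
        rw [inv_pow]
        refine eq_inv_of_mul_eq_one_left ?_
        rw [← pow_succ', Nat.sub_add_cancel (by omega), hζ]
      rw [this]
      exact pow_mem h _
  have hl0 : l ≠ 0 := fun h => by
    rw [h] at hl
    exact hl2 (by rw [h]; simp [zero_pow (Nat.ne_of_gt hodd.pos)] at hl)
  have hli : l⁻¹ ^ e = 1 := by rw [inv_pow, hl, inv_one]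
  set lA : A := ⟨l, hroot l hl⟩
  set lA' : A := ⟨l⁻¹, hroot _ hli⟩
  have hlA : lA ^ e = 1 := Subtype.ext (by simpa [lA] using hl)
  have hke : (e : k) ≠ 0 := fun h => hpe ((CharP.cast_eq_zero_iff k p e).1 h)
  have hfne : ∀ z : A, z ^ e = 1 → (z : ℂ) ≠ 1 → f z ≠ 1 := by
    intro z hz hz1 hf1
    have h0 : ∑ i ∈ Finset.range e, z ^ i = 0 := by
      refine Subtype.ext ?_
      have h2 : ((z : ℂ) - 1) * ∑ i ∈ Finset.range e, (z : ℂ) ^ i = 0 := by
        rw [mul_geom_sum, show (z : ℂ) ^ e = 1 by simpa using congrArg Subtype.val hz, sub_self]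
      simpa using (mul_eq_zero.1 h2).resolve_left (sub_ne_zero.2 hz1)
    have := congrArg f h0
    rw [map_sum, map_zero, Finset.sum_congr rfl fun i _ => show f (z ^ i) = 1 by
      rw [map_pow, hf1, one_pow], Finset.sum_const, Finset.card_range, nsmul_eq_mul, mul_one] at this
    exact hke this
  have hmul : lA * lA' = 1 := Subtype.ext (mul_inv_cancel₀ hl0)
  -- the characteristic polynomial
  have hQ : (R x).charpoly = (X ^ e - 1) ^ d * ((X - C lA) * (X - C lA')) := by
    refine Polynomial.map_injective A.subtype Subtype.val_injective ?_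
    rw [← Matrix.charpoly_map]
    show (A.subtype.mapMatrix (R x)).charpoly = _
    rw [hR, mul_assoc, Matrix.charpoly_mul_comm, mul_assoc, Matrix.mul_nonsing_inv B hB, mul_one, hcp]
    simp [lA, lA', Polynomial.map_pow, Polynomial.map_mul, Polynomial.map_sub]
  have hθcp : (θ x).charpoly = (X ^ e - 1) ^ d * ((X - C (f lA)) * (X - C (f lA'))) := by
    show (Matrix.toLin' (f.mapMatrix (R x))).charpoly = _
    rw [Matrix.charpoly_toLin', RingHom.mapMatrix_apply, Matrix.charpoly_map, hQ]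
    simp [Polynomial.map_pow, Polynomial.map_mul, Polynomial.map_sub]
  -- the form
  set M₁ := Bᵀ * M₀ * B
  have hM₁ : M₁ ≠ 0 := fun h => hM₀ (by
    have h1 : (B⁻¹)ᵀ * M₁ * B⁻¹ = M₀ := by
      simp only [M₁, mul_assoc, Matrix.mul_nonsing_inv B hB, mul_one]
      rw [← mul_assoc, ← Matrix.transpose_mul, Matrix.mul_nonsing_inv B hB, Matrix.transpose_one,
        one_mul]
    rw [← h1, h, mul_zero, zero_mul])
  have hinv₁ : ∀ g, (A.subtype.mapMatrix (R g))ᵀ * M₁ * A.subtype.mapMatrix (R g) = M₁ := fun g => by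
    rw [hR, Matrix.transpose_mul, Matrix.transpose_mul]
    have h1 : (B⁻¹)ᵀ * Bᵀ = 1 := by
      rw [← Matrix.transpose_mul, Matrix.mul_nonsing_inv B hB, Matrix.transpose_one]
    calc Bᵀ * ((M g)ᵀ * (B⁻¹)ᵀ) * M₁ * (B⁻¹ * M g * B)
        = Bᵀ * ((M g)ᵀ * ((B⁻¹)ᵀ * Bᵀ) * M₀ * (B * B⁻¹) * M g) * B := by
          simp only [M₁, mul_assoc]
      _ = M₁ := by rw [h1, Matrix.mul_nonsing_inv B hB, mul_one, mul_one, hinv g]
  obtain ⟨t, N', hN', i, j, hij⟩ := exists_scaled A hM₁
  have hN'inv : ∀ g, (R g)ᵀ * N' * R g = N' := fun g => by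
    refine Matrix.map_injective (f := A.subtype) Subtype.val_injective ?_
    show A.subtype.mapMatrix _ = A.subtype.mapMatrix N'
    rw [map_mul, map_mul, hN', show A.subtype.mapMatrix (R g)ᵀ = (A.subtype.mapMatrix (R g))ᵀ from rfl,
      Matrix.mul_smul, Matrix.smul_mul, hinv₁ g]
  set N'' := f.mapMatrix N'
  have hbinv : ∀ g, (f.mapMatrix (R g))ᵀ * N'' * f.mapMatrix (R g) = N'' := fun g => by
    rw [show (f.mapMatrix (R g))ᵀ = f.mapMatrix (R g)ᵀ from rfl, ← map_mul, ← map_mul, hN'inv g]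
  refine ⟨k, inferInstance, inferInstance, inferInstance, θ, f lA, f lA', Matrix.toLinearMap₂' k N'',
    hfne lA hlA (fun h => hl2 (by rw [show l = 1 from h, one_pow])),
    by rw [← map_mul, hmul, map_one], ?_, hθcp, ?_, fun g u v => ?_⟩
  · intro heq
    refine hfne (lA * lA) (by rw [mul_pow, hlA, one_mul]) ?_ ?_
    · show l * l ≠ 1
      rwa [← pow_two]
    · rw [map_mul]
      nth_rewrite 2 [heq]
      rw [← map_mul, hmul, map_one]
  · intro h0
    have h1 : N'' = 0 := (Matrix.toLinearMap₂' k).injective (by rw [h0, map_zero])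
    have := congrFun (congrFun h1 i) j
    simp [N'', hij] at this
  · show Matrix.toLinearMap₂' k N'' (Matrix.toLin' (f.mapMatrix (R g)) u)
      (Matrix.toLin' (f.mapMatrix (R g)) v) = _
    rw [Matrix.toLinearMap₂'_apply', Matrix.toLinearMap₂'_apply', Matrix.toLin'_apply,
      Matrix.toLin'_apply]
    conv_rhs => rw [← hbinv g, mul_assoc, ← Matrix.mulVec_mulVec, Matrix.dotProduct_mulVec,
      Matrix.vecMul_transpose, ← Matrix.mulVec_mulVec]

end Cfsg.Agent.UniqueDegree
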