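import Cfsg.Agent.Lib.UniqueDegree.EvenCase
import Cfsg.Agent.Lib.UniqueDegree.Modular
import Cfsg.Agent.Lib.UniqueDegree.Reduce
import Cfsg.Agent.Lib.UniqueDegree.PowerSums
import Cfsg.Agent.Lib.Char.InvariantForm
import Cfsg.Agent.Lib.PSL2.SylowPrime
import Cfsg.Agent.Lib.PSL2.DicksonOrders

/-!
# `E` of odd order: `p + 1` Sylow subgroups, hence `PSL(2, p)`
-/

set_option autoImplicit false
set_option linter.style.haveILetI false
set_option linter.unusedSectionVars false

namespace Cfsg.Agent.UniqueDegree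

open Cfsg.Agent.Char MulAction
open scoped MatrixGroups

universe u

variable {α : Type*} [Fintype α] [DecidableEq α] {p : ℕ} [hp : Fact p.Prime]
  {G : Subgroup (Equiv.Perm α)} [IsPretransitive G α]

namespace Setting

variable (S : Setting G p)

theorem comm_E {g g' : G} (hg : g ∈ S.E) (hg' : g' ∈ S.E) : g * g' = g' * g := by
  rw [← S.hx] at hg hg'
  obtain ⟨i, rfl⟩ := Subgroup.mem_zpowers_iff.1 hg
  obtain ⟨j, rfl⟩ := Subgroup.mem_zpowers_iff.1 hg'
  exact (Commute.zpow_zpow (Commute.refl S.x) i j).eq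

theorem eq_zpowers_of_orderOf_eq {H : Type*} [Group H] [Finite H] [IsCyclic H] {a b : H} {r : ℕ}
    (ha : orderOf a = r) (hb : orderOf b = r) : Subgroup.zpowers a = Subgroup.zpowers b := by
  classical
  haveI := Fintype.ofFinite H
  have hr : 0 < r := ha ▸ orderOf_pos a
  have key : ∀ c : H, orderOf c = r →
      (Subgroup.zpowers c : Set H) = ↑(Finset.univ.filter fun z : H => z ^ r = 1) := by
    intro c hc
    refine Set.eq_of_subset_of_ncard_le (fun z hz => ?_) ?_ (Set.toFinite _)
    · obtain ⟨j, rfl⟩ := Subgroup.mem_zpowers_iff.1 hz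
      simp only [Finset.coe_filter, Finset.mem_univ, true_and, Set.mem_setOf_eq]
      rw [← zpow_natCast, ← zpow_mul, mul_comm, zpow_mul, zpow_natCast, ← hc, pow_orderOf_eq_one,
        one_zpow]
    · rw [Set.ncard_coe_finset, ← Nat.card_coe_set_eq]
      refine (IsCyclic.card_pow_eq_one_le hr).trans ?_
      rw [← hc, ← Nat.card_zpowers c]
      exact le_rfl
  exact SetLike.coe_injective ((key a ha).trans (key b hb).symm)

theorem two_mul_mem (u : G) (huN : u ∈ Subgroup.normalizer (S.E : Set G)) (huE : u ∉ S.E)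
    (g : G) (hg : g ∈ Subgroup.normalizer (S.E : Set G)) : g ∈ S.E ∨ g * u⁻¹ ∈ S.E := by
  classical
  haveI := Fintype.ofFinite G
  set N := Subgroup.normalizer (S.E : Set G)
  have hidx : (S.E.subgroupOf N).index = 2 := by
    have h1 := Subgroup.card_mul_index (S.E.subgroupOf N)
    rw [Nat.card_congr (Subgroup.subgroupOfEquivOfLe (Subgroup.le_normalizer (H := S.E))).toEquiv,
      S.card_E, S.hN, mul_comm 2] at h1
    exact Nat.eq_of_mul_eq_mul_left (by have := S.he2; omega) h1
  by_cases hgE : g ∈ S.E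
  · exact Or.inl hgE
  refine Or.inr ?_
  have h := (Subgroup.mul_mem_iff_of_index_two hidx (a := (⟨g, hg⟩ : N))
    (b := (⟨u⁻¹, inv_mem huN⟩ : N))).2 ?_
  · exact h
  · simp [Subgroup.mem_subgroupOf, hgE, huE]

/-- In the odd case the outer part of the normaliser inverts `E`. -/
theorem inverts (hG : commutator G = ⊤) (hodd : Odd S.e) :
    ∀ g ∈ Subgroup.normalizer (S.E : Set G), g ∉ S.E → ∀ z ∈ S.E, g⁻¹ * z * g = z⁻¹ := by
  classical
  haveI := Fintype.ofFinite G
  haveI := Fact.mk Nat.prime_two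
  obtain ⟨⟨u, huN⟩, hu⟩ := exists_prime_orderOf_dvd_card' (G := Subgroup.normalizer (S.E : Set G)) 2
    (by rw [S.hN]; exact dvd_mul_right 2 _)
  rw [Subgroup.orderOf_mk] at hu
  have huu : u * u = 1 := by rw [← pow_two, ← hu, pow_orderOf_eq_one]
  have hui : u⁻¹ = u := inv_eq_of_mul_eq_one_right huu
  have huE : u ∉ S.E := fun h => by
    have h1 := Subgroup.orderOf_dvd_natCard S.E h
    rw [hu, S.card_E] at h1
    exact (Nat.not_even_iff_odd.2 hodd) (even_iff_two_dvd.2 h1)
  have hconj : ∀ z ∈ S.E, u * z * u ∈ S.E := fun z hz => by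
    have h := (Subgroup.mem_normalizer_iff.1 huN z).1 hz
    rwa [hui] at h
  -- `u` fixes no non-trivial element of `E`
  have hfix : ∀ z ∈ S.E, u * z * u = z → z = 1 := by
    by_contra hne
    push Not at hne
    obtain ⟨z, hzE, hzu, hz1⟩ := hne
    obtain ⟨r, hr, hrd⟩ := Nat.exists_prime_and_dvd (show orderOf z ≠ 1 from fun h => hz1 (orderOf_eq_one_iff.1 h))
    haveI := Fact.mk hr
    set w := z ^ (orderOf z / r)
    have hwo : orderOf w = r := orderOf_pow_orderOf_div (orderOf_pos z).ne' hrd
    have hwE : w ∈ S.E := pow_mem hzE _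
    have hw1 : w ≠ 1 := fun h => hr.ne_one (by rw [← hwo, h, orderOf_one])
    have hre : r ∣ S.e := by rw [← S.card_E, ← hwo]; exact Subgroup.orderOf_dvd_natCard _ hwE
    have hr2 : r ≠ 2 := fun h => (Nat.not_even_iff_odd.2 hodd) (even_iff_two_dvd.2 (h ▸ hre))
    have hzw : u * w * u = w := by
      have h : Commute u z := by
        show u * z = z * u
        calc u * z = u * z * (u * u) := by rw [huu, mul_one]
          _ = u * z * u * u := by group
          _ = z * u := by rw [hzu]
      calc u * w * u = w * u * u := by rw [(h.pow_right _).eq]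
        _ = w := by rw [mul_assoc, huu, mul_one]
    -- a Sylow subgroup inside `E`
    obtain ⟨R₀⟩ : Nonempty (Sylow r S.E) := inferInstance
    set R₁ := (R₀ : Subgroup S.E).map S.E.subtype
    have hR₁E : R₁ ≤ S.E := Subgroup.map_subtype_le _
    have hwR : w ∈ R₁ := by
      haveI : (R₀ : Subgroup S.E).Normal :=
        ⟨fun n hn g => by
          rw [show g * n * g⁻¹ = n from Subtype.ext (by
            rw [Subgroup.coe_mul, Subgroup.coe_mul, InvMemClass.coe_inv, S.comm_E g.2 n.2,
              mul_inv_cancel_right])]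
          exact hn⟩
      haveI : Subsingleton (Sylow r S.E) := by
        letI := Sylow.unique_of_normal R₀ inferInstance
        infer_instance
      obtain ⟨Q, hQ⟩ := (IsPGroup.of_card (p := r) (G := Subgroup.zpowers (⟨w, hwE⟩ : S.E)) (n := 1)
        (by rw [Nat.card_zpowers, Subgroup.orderOf_mk, hwo, pow_one])).exists_le_sylow
      rw [Subsingleton.elim Q R₀] at hQ
      exact ⟨⟨w, hwE⟩, hQ (Subgroup.mem_zpowers _), rfl⟩
    have hR₁p : IsPGroup r R₁ := R₀.isPGroup'.map _
    obtain ⟨R, hR⟩ := hR₁p.exists_le_sylow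
    have hnorm : ∀ g : G, g ∈ Subgroup.normalizer (R₁ : Set G) → g ∈ Subgroup.normalizer (S.E : Set G) :=
      fun g hg => S.mem_normalizer_of_mem hwE hw1 (hR₁E ((Subgroup.mem_normalizer_iff''.1 hg w).1 hwR))
    have hRE : (R : Subgroup G) = R₁ := by
      refine le_antisymm ?_ hR
      by_contra hlt
      haveI := R.isPGroup'.isNilpotent
      have hmaxE : ∀ g ∈ (R : Subgroup G), g ∈ Subgroup.normalizer (S.E : Set G) → g ∈ R₁ := by
        intro g hgR hgN
        obtain ⟨k, hk⟩ := R.isPGroup' ⟨g, hgR⟩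
        have hgk : g ^ r ^ k = 1 := congrArg Subtype.val hk
        have hgE : g ∈ S.E := by
          rcases S.two_mul_mem u huN huE g hgN with h | h
          · exact h
          · exfalso
            obtain ⟨i, hi⟩ := (hr.odd_of_ne_two hr2).pow (n := k)
            have hNidx : ((S.E.subgroupOf (Subgroup.normalizer (S.E : Set G)))).index = 2 := by
              have h1 := Subgroup.card_mul_index (S.E.subgroupOf (Subgroup.normalizer (S.E : Set G)))
              rw [Nat.card_congr (Subgroup.subgroupOfEquivOfLe (Subgroup.le_normalizer (H := S.E))).toEquiv,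
                S.card_E, S.hN, mul_comm 2] at h1
              exact Nat.eq_of_mul_eq_mul_left (by have := S.he2; omega) h1
            have hsq := Subgroup.sq_mem_of_index_two hNidx ⟨g, hgN⟩
            rw [Subgroup.mem_subgroupOf, SubgroupClass.coe_pow] at hsq
            change g ^ 2 ∈ S.E at hsq
            have hgi : g = g ^ r ^ k * ((g ^ 2) ^ i)⁻¹ := by
              rw [hi, pow_succ, pow_mul, mul_assoc,
                ((Commute.refl g).pow_right 2 |>.pow_right i).inv_right.eq, mul_inv_cancel_left]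
            have hgE : g ∈ S.E := by
              rw [hgi, hgk, one_mul]; exact inv_mem (pow_mem hsq i)
            exact huE (by simpa using mul_mem (inv_mem h) hgE)
        have hsub : Subgroup.zpowers (⟨g, hgE⟩ : S.E) ≤ (R₀ : Subgroup S.E) := by
          haveI : (R₀ : Subgroup S.E).Normal :=
            ⟨fun n hn g => by
              rw [show g * n * g⁻¹ = n from Subtype.ext (by
                rw [Subgroup.coe_mul, Subgroup.coe_mul, InvMemClass.coe_inv, S.comm_E g.2 n.2,
                  mul_inv_cancel_right])]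
              exact hn⟩
          haveI : Subsingleton (Sylow r S.E) := by
            letI := Sylow.unique_of_normal R₀ inferInstance
            infer_instance
          have hpg : IsPGroup r (Subgroup.zpowers (⟨g, hgE⟩ : S.E)) := by
            intro z
            refine ⟨k, Subtype.ext ?_⟩
            obtain ⟨j, hj⟩ := Subgroup.mem_zpowers_iff.1 z.2
            rw [SubgroupClass.coe_pow, ← hj, ← zpow_natCast, ← zpow_mul, mul_comm, zpow_mul, zpow_natCast]
            rw [show (⟨g, hgE⟩ : S.E) ^ r ^ k = 1 from Subtype.ext hgk, one_zpow]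
            rfl
          obtain ⟨Q, hQ⟩ := hpg.exists_le_sylow
          rwa [Subsingleton.elim Q R₀] at hQ
        exact ⟨⟨g, hgE⟩, hsub (Subgroup.mem_zpowers _), rfl⟩
      have hlt' : R₁.subgroupOf (R : Subgroup G) < ⊤ := lt_top_iff_ne_top.2 fun h =>
        hlt (Subgroup.subgroupOf_eq_top.1 h)
      obtain ⟨g, hg, hgn⟩ := SetLike.exists_of_lt (Group.normalizerCondition_of_isNilpotent _ hlt')
      refine hgn (Subgroup.mem_subgroupOf.2 (hmaxE _ g.2 (hnorm _ ?_)))
      rw [← Subgroup.mem_subgroupOf, Subgroup.subgroupOf_normalizer_eq hR]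
      exact hg
    refine not_normalizer_le_centralizer hG R (fun h1 => hw1 ?_) ?_
    · have hbot : (R : Subgroup G) = ⊥ := Subgroup.eq_bot_of_card_eq _ h1
      exact Subgroup.mem_bot.1 (hbot ▸ hR hwR)
    -- `u` centralises `R`
    have huR : ∀ v ∈ R₁, u * v * u = v := by
      intro v hv
      have hvE := hR₁E hv
      set v' := u * v * u * v⁻¹ with hv'
      have hv'E : v' ∈ S.E := mul_mem (hconj v hvE) (inv_mem hvE)
      by_contra hne
      have hv'1 : v' ≠ 1 := fun h => hne (mul_inv_eq_one.1 h)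
      have hinv' : u * v' * u = v'⁻¹ := by
        rw [hv', mul_inv_rev, inv_inv, mul_inv_rev, mul_inv_rev, hui]
        rw [show u * (u * v * u * v⁻¹) * u = (u * u) * v * (u * v⁻¹ * u) by group, huu, one_mul,
          show u * (v⁻¹ * u) = u * v⁻¹ * u by group]
      -- `v'` is an `r`-element, so a power of it generates `⟨w⟩`
      obtain ⟨k, hk⟩ := hR₁p ⟨v, hv⟩
      have hvk : v ^ r ^ k = 1 := congrArg Subtype.val hk
      have huvk : (u * v * u) ^ r ^ k = 1 := by
        have : u * v * u = u * v * u⁻¹ := by rw [hui]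
        rw [this, conj_pow, hvk, mul_one, mul_inv_cancel]
      have hv'k : v' ^ r ^ k = 1 := by
        rw [hv', (show Commute (u * v * u) v⁻¹ from S.comm_E (hconj v hvE) (inv_mem hvE)).mul_pow, huvk,
          inv_pow, hvk, inv_one, one_mul]
      obtain ⟨j, -, hj⟩ := (Nat.dvd_prime_pow hr).1 (orderOf_dvd_of_pow_eq_one hv'k)
      have hrv : r ∣ orderOf v' := by
        rw [hj]
        refine dvd_pow_self r fun h0 => hv'1 ?_
        rw [h0, pow_zero] at hj
        exact orderOf_eq_one_iff.1 hj
      set w' := v' ^ (orderOf v' / r)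
      have hw'o : orderOf w' = r := orderOf_pow_orderOf_div (orderOf_pos v').ne' hrv
      haveI : IsCyclic S.E := Subgroup.isCyclic_iff_exists_zpowers_eq_top S.E |>.2 ⟨S.x, S.hx⟩
      have heq : Subgroup.zpowers (⟨w', pow_mem hv'E _⟩ : S.E) = Subgroup.zpowers (⟨w, hwE⟩ : S.E) :=
        eq_zpowers_of_orderOf_eq (r := r) (by rw [Subgroup.orderOf_mk]; exact hw'o)
          (by rw [Subgroup.orderOf_mk]; exact hwo)
      have hmem : (⟨w', pow_mem hv'E _⟩ : S.E) ∈ Subgroup.zpowers (⟨w, hwE⟩ : S.E) :=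
        heq ▸ Subgroup.mem_zpowers _
      obtain ⟨i, hi⟩ := Subgroup.mem_zpowers_iff.1 hmem
      have hi' : w ^ i = w' := by simpa using congrArg Subtype.val hi
      have hcu : Commute u w := by
        show u * w = w * u
        calc u * w = u * w * (u * u) := by rw [huu, mul_one]
          _ = u * w * u * u := by group
          _ = w * u := by rw [hzw]
      have h1 : u * w' * u = w' := by
        rw [← hi', (hcu.zpow_right i).eq, mul_assoc, huu, mul_one]
      have h2 : u * w' * u = w'⁻¹ := by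
        have hc : ∀ n : ℕ, u * v' ^ n * u = (v'⁻¹) ^ n := fun n => by
          rw [← hinv', show u * v' * u = u * v' * u⁻¹ by rw [hui], conj_pow, hui]
        rw [hc, inv_pow]
      have h3 : w' * w' = 1 := eq_inv_iff_mul_eq_one.1 (h1.symm.trans h2)
      have h4 : r ∣ 2 := hw'o ▸ orderOf_dvd_of_pow_eq_one (by rw [pow_two]; exact h3)
      exact hr2 ((Nat.prime_dvd_prime_iff_eq hr Nat.prime_two).1 h4)
    intro g hg
    refine Subgroup.mem_centralizer_iff.2 fun v hv => ?_
    rw [SetLike.mem_coe, hRE] at hv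
    have hgN := hnorm g (by rw [← hRE]; exact hg)
    rcases S.two_mul_mem u huN huE g hgN with h | h
    · exact S.comm_E (hR₁E hv) h
    · have h1 := S.comm_E (hR₁E hv) h
      have hcv : v * u = u * v := by
        calc v * u = u * v * u * u := by rw [huR v hv]
          _ = u * v := by rw [mul_assoc, huu, mul_one]
      calc v * g = v * (g * u⁻¹) * u := by group
        _ = g * u⁻¹ * (v * u) := by rw [h1]; group
        _ = g * v := by rw [hcv]; group
  -- hence inversion
  have hinvu : ∀ z ∈ S.E, u * z * u = z⁻¹ := fun z hz => by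
    have h := hfix (u * z * u * z) (mul_mem (hconj z hz) hz) (by
      rw [show u * (u * z * u * z) * u = (u * u) * z * (u * z * u) by group, huu, one_mul]
      exact S.comm_E hz (hconj z hz))
    exact eq_inv_of_mul_eq_one_left h
  intro g hgN hgE z hz
  have h := (S.two_mul_mem u huN huE g hgN).resolve_left hgE
  have h1 := S.comm_E (inv_mem h) hz
  calc g⁻¹ * z * g = u⁻¹ * ((g * u⁻¹)⁻¹ * z) * (g * u⁻¹) * u := by group
    _ = u⁻¹ * (z * (g * u⁻¹)⁻¹) * (g * u⁻¹) * u := by rw [h1]
    _ = u⁻¹ * z * u := by group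
    _ = u * z * u := by rw [hui]
    _ = z⁻¹ := hinvu z hz

/-- The odd case. -/
theorem psl_of_odd (hα : Fintype.card α = p) (hG : commutator G = ⊤)
    (huniq : ∃! χ : Cfsg.IrrCharacter G, Cfsg.charDegree (χ : G → ℂ) = p)
    (hgen : Subgroup.normalClosure ((S.P : Subgroup G) : Set G) = ⊤) [IsSimpleGroup G]
    (hodd : Odd S.e) :
    (p = 5 ∨ p = 7 ∨ p = 11) ∧
      Nonempty (G ≃* Matrix.ProjectiveSpecialLinearGroup (Fin 2) (ZMod p)) := by
  classical
  haveI := Fintype.ofFinite G
  have h3 : 3 ≤ S.e := by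
    obtain ⟨i, hi⟩ := hodd
    have := S.he2
    omega
  obtain ⟨d, hd⟩ := S.hep
  have hpd : p = d * S.e + 1 := by
    have := hp.out.two_le
    rw [mul_comm] at hd
    omega
  let F : Frob G p :=
    { E := S.E, x := S.x, e := S.e, hx := S.hx, he := S.hxe, h3 := h3, hodd := hodd, hN := S.hN
      hinv := S.inverts hG hodd
      hfus := fun z hz hz1 g hg => S.mem_normalizer_of_mem hz hz1 hg
      hp := hp.out, d := d, hd := hpd, huniq := huniq }
  obtain ⟨B, l, hBdeg, hreal, hl, hl2, hval⟩ := F.exists_character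
  obtain ⟨n, ρ, hirr, hρ⟩ := B.2
  have hn : n = p + 1 := by
    have h : ρ.character 1 = (n : ℂ) := by simp
    rw [hρ, apply_one_eq_degree, hBdeg] at h
    exact_mod_cast h.symm
  -- the data for the modular argument
  have hyN : S.y ∈ (S.P : Subgroup G) := S.hy ▸ Subgroup.mem_zpowers S.y
  have hEN : S.E ≤ Subgroup.normalizer ((S.P : Subgroup G) : Set G) := S.hsup ▸ le_sup_right
  have hxN := hEN S.x_mem
  obtain ⟨a, ha⟩ : ∃ a : ℕ, S.x * S.y * S.x⁻¹ = S.y ^ a := SmallDegree.exists_eq_pow S.hy
    ((Subgroup.mem_normalizer_iff.1 hxN S.y).1 hyN)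
  have hP := card_sylow hα S.P
  have hyo : orderOf S.y = p := by rw [← Nat.card_zpowers, S.hy]; exact hP
  have hiter : ∀ i : ℕ, S.x ^ i * S.y * (S.x ^ i)⁻¹ = S.y ^ a ^ i := fun i => by
    induction i with
    | zero => simp
    | succ i ih =>
      calc S.x ^ (i + 1) * S.y * (S.x ^ (i + 1))⁻¹
          = S.x * (S.x ^ i * S.y * (S.x ^ i)⁻¹) * S.x⁻¹ := by rw [pow_succ']; group
        _ = S.y ^ a ^ (i + 1) := by rw [ih, ← conj_pow, ha, ← pow_mul, ← pow_succ']
  have haprim : IsPrimitiveRoot (a : ZMod p) S.e := by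
    have hiff : ∀ i : ℕ, ((a : ZMod p) ^ i = 1 ↔ S.e ∣ i) := fun i => by
      have hpm : ∀ n m : ℕ, S.y ^ n = S.y ^ m ↔ (n : ZMod p) = (m : ZMod p) := fun n m => by
        rw [pow_inj_mod, hyo, ZMod.natCast_eq_natCast_iff']
      rw [← Nat.cast_pow, ← Nat.cast_one, ← hpm, pow_one, ← hiter i]
      constructor
      · intro h
        rw [← S.hxe]
        refine orderOf_dvd_of_pow_eq_one (Subgroup.mem_bot.1 (S.hinf ▸ Subgroup.mem_inf.2
          ⟨S.hcent _ (mul_inv_eq_iff_eq_mul.1 h), pow_mem S.x_mem i⟩))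
      · rintro ⟨c, rfl⟩
        rw [pow_mul, ← S.hxe, pow_orderOf_eq_one, one_pow]
        simp
    exact IsPrimitiveRoot.iff_def _ _ |>.2 ⟨(hiff S.e).2 dvd_rfl, fun i hi => (hiff i).1 hi⟩
  let D : Datum p G :=
    { P := S.P, y := S.y, x := S.x, a := a, e := S.e, hP := hP
      hsq := Perm.PrimeDegree.not_dvd_card_sq G hp.out hα, hgen := hgen, hy := S.hy, hxy := ha
      hxe := by rw [← S.hxe, pow_orderOf_eq_one]
      hN := fun m hm => by
        rw [← S.hsup, sup_comm] at hm
        obtain ⟨v, hv, z, hz, rfl⟩ := (Coprime.mem_sup_iff_of_le_normalizer' hEN).1 hm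
        obtain ⟨i, rfl⟩ := SmallDegree.exists_eq_pow S.hy hv
        obtain ⟨j, rfl⟩ := SmallDegree.exists_eq_pow S.hx hz
        exact ⟨i, j, rfl⟩
      h3 := h3, hodd := hodd, hep := S.hep, ha := haprim }
  let M : G →* Matrix (Fin n) (Fin n) ℂ :=
    (LinearMap.toMatrixAlgEquiv' : Module.End ℂ (Fin n → ℂ) ≃ₐ[ℂ] _).toAlgHom.toMonoidHom.comp ρ
  have hcp : (M S.x).charpoly = (Polynomial.X ^ S.e - 1) ^ d *
      ((Polynomial.X - Polynomial.C l) * (Polynomial.X - Polynomial.C l⁻¹)) := by
    have h := charpoly_of_traces (ρ S.x) (e := S.e) (d := d) (l := l) (by omega)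
      (by rw [← map_pow, ← S.hxe, pow_orderOf_eq_one, map_one]) hl (fun i => by
        rw [← map_pow, ← hval i, ← hρ]; rfl)
    rw [← h, ← LinearMap.charpoly_toMatrix (ρ S.x) (Pi.basisFun ℂ (Fin n))]
    congr 1
  obtain ⟨⟨M₀, hM₀, hinv⟩, -⟩ := invariant_forms ρ (avg_sq_eq_one ρ hirr (fun g => hρ ▸ hreal g))
  have hpe : ¬ p ∣ S.e := fun h => by
    have := Nat.le_of_dvd (by omega) h
    have h2 := D.two_mul_e_le
    change 2 * S.e ≤ p - 1 at h2
    omega
  obtain ⟨k, _, _, _, θ, m, m', b, hm, hmm, hne, hθ, hb, hbinv⟩ :=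
    exists_reduced p M S.x hpe hl hl2 hodd hcp hM₀ hinv
  obtain ⟨hidx, he⟩ := D.small_of_roots θ (by rw [Module.finrank_fin_fun, hn])
    (d := d) ⟨hpd.symm, hm, hmm, hne⟩ hθ b hb hbinv
  change (Subgroup.normalizer ((S.P : Subgroup G) : Set G)).index = p + 1 at hidx
  change 2 * S.e = p - 1 at he
  -- recognition
  have hcard : Nat.card G = p * ((p + 1) * S.e) := by
    rw [← Subgroup.card_mul_index (Subgroup.normalizer ((S.P : Subgroup G) : Set G)), hidx, S.hNcard]
    ring
  have h7 : 7 ≤ p := D.seven_le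
  obtain ⟨iso⟩ := PSL2.Recog.psl_of_prime (G := G) (F := ZMod p) (by omega) hcard
    (by
      have e1 : p ^ 2 - 1 = (p + 1) * (p - 1) := by rw [← Nat.sq_sub_sq, one_pow]
      rw [e1, ← he]; ring)
    (fun a ha hamod => by
      obtain ⟨b, hb⟩ := ha
      obtain ⟨c, hc⟩ : ∃ c, a = 1 + c * p := ⟨a / p, by
        have := Nat.div_add_mod a p; rw [hamod] at this; rw [mul_comm (a / p)]; omega⟩
      rcases c with _ | _ | c
      · exact Or.inl (by omega)
      · exact Or.inr (by omega)
      · exfalso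
        have hbn : (p + 1) * S.e ≡ b [MOD p] := by
          rw [hb, hc, show (1 + (c + 1 + 1) * p) * b = b + (c + 1 + 1) * b * p by ring]
          exact Nat.add_mul_mod_self_right _ _ _
        have hbn' : S.e % p = b % p := by
          have : (p + 1) * S.e ≡ S.e [MOD p] := by simp [Nat.ModEq, Nat.add_mul]
          exact this.symm.trans hbn
        have hlt : b < S.e := by
          by_contra hh
          push Not at hh
          have h1 : (1 + (c + 2) * p) * S.e ≤ a * b := hc ▸ Nat.mul_le_mul_left _ hh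
          have h2 : (p + 1) * S.e < (1 + (c + 2) * p) * S.e :=
            Nat.mul_lt_mul_of_pos_right (by nlinarith) (by omega)
          omega
        rw [Nat.mod_eq_of_lt (by omega : S.e < p), Nat.mod_eq_of_lt (by omega : b < p)] at hbn'
        omega)
    (ZMod.card p)
  refine ⟨?_, ⟨iso⟩⟩
  -- a subgroup of index `p`
  by_contra hnot
  haveI : Nonempty α := Fintype.card_pos_iff.1 (hα ▸ hp.out.pos)
  set H := stabilizer G S.a with hH
  have hidxH : H.index = p := by
    rw [hH, index_stabilizer_of_transitive, Nat.card_eq_fintype_card, hα]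
  set H' := H.map iso.toMonoidHom
  have hidx' : H'.index = p := (Subgroup.index_map_equiv H iso).trans hidxH
  have hHtop : H' ≠ ⊤ := fun h => by
    rw [h, Subgroup.index_top] at hidx'
    omega
  have hbound := PSL2.card_mul_le_of_ne_top (F := ZMod p) (by
    rw [ZMod.card]
    simp only [Finset.mem_insert, Finset.mem_singleton]
    push Not at hnot
    refine fun h => ?_
    rcases h with h | h | h | h | h | h
    · omega
    · omega
    · exact hnot.1 h
    · exact hnot.2.1 h
    · exact absurd (h ▸ hp.out) (by norm_num)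
    · exact hnot.2.2 h) hHtop
  rw [ZMod.card, ← H'.card_mul_index, hidx'] at hbound
  have := Nat.le_of_mul_le_mul_left hbound Nat.card_pos
  omega

end Setting

end Cfsg.Agent.UniqueDegree
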