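import Cfsg.Agent.Lib.UniqueDegree.Single
import Mathlib.LinearAlgebra.Charpoly.ToMatrix

/-!
# The irreducible constituents of a module of dimension at most `p + 1`

* `Datum.index_of_small`: a non-trivial irreducible constituent of dimension below `p / 2` forces
  `p + 1` Sylow `p`-subgroups.
* `Datum.reducible_cases`: otherwise a reducible module of dimension `p + 1` has the characteristic
  polynomial at `x` of a trivial module plus at most two strings.
-/

set_option autoImplicit false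
set_option linter.style.haveILetI false
set_option linter.unusedSectionVars false

namespace Cfsg.Agent.UniqueDegree

open SmallDegree Module Polynomial DerivedLength

universe u v w

namespace Datum

variable {p : ℕ} [hp : Fact p.Prime] {G : Type u} [Group G] [Finite G] (D : Datum p G)
  {K : Type v} [Field K] [IsAlgClosed K] [CharP K p]

/-- The centraliser of `P` has relative index at most `e` in the normaliser. -/
theorem relIndex_le :
    (Subgroup.centralizer (D.P : Set G)).relIndex (Subgroup.normalizer (D.P : Set G)) ≤ D.e := by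
  classical
  set C := Subgroup.centralizer (D.P : Set G)
  set N := Subgroup.normalizer (D.P : Set G)
  have hxN : D.x ∈ N := by
    rw [Subgroup.mem_normalizer_iff_map_conj_eq, ← D.hy, MonoidHom.map_zpowers]
    refine Subgroup.eq_of_le_of_card_ge (Subgroup.zpowers_le.2 ?_) (le_of_eq ?_)
    · show D.x * D.y * D.x⁻¹ ∈ _
      rw [D.hxy]; exact pow_mem (Subgroup.mem_zpowers _) _
    · rw [Nat.card_zpowers, Nat.card_zpowers]
      exact (orderOf_injective (MulAut.conj D.x).toMonoidHom (MulAut.conj D.x).injective D.y).symm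
  let f : Fin D.e → N ⧸ C.subgroupOf N := fun j => QuotientGroup.mk ⟨D.x ^ (j : ℕ), pow_mem hxN _⟩
  have hf : Function.Surjective f := fun q => by
    induction q using QuotientGroup.induction_on with
    | H n =>
    obtain ⟨i, j, hij⟩ := D.hN n n.2
    refine ⟨⟨j % D.e, Nat.mod_lt _ (by have := D.h3; omega)⟩, QuotientGroup.eq.2 ?_⟩
    rw [Subgroup.mem_subgroupOf, Subgroup.coe_mul, InvMemClass.coe_inv]
    show (D.x ^ (j % D.e))⁻¹ * (n : G) ∈ C
    rw [← pow_eq_pow_mod j D.hxe, hij]
    have hyi : D.y ^ i ∈ D.P := pow_mem D.y_mem i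
    have hxj : (D.x ^ j)⁻¹ ∈ N := inv_mem (pow_mem hxN j)
    have hc : ((D.x ^ j)⁻¹ * (D.y ^ i) * (D.x ^ j)⁻¹⁻¹) ∈ D.P :=
      (Subgroup.mem_normalizer_iff.1 hxj _).1 hyi
    rw [inv_inv] at hc
    rw [← mul_assoc]
    refine Subgroup.mem_centralizer_iff.2 fun u hu => ?_
    rw [SetLike.mem_coe, ← D.hy] at hu
    rw [← D.hy] at hc
    obtain ⟨m, rfl⟩ := Subgroup.mem_zpowers_iff.1 hu
    obtain ⟨m', hm'⟩ := Subgroup.mem_zpowers_iff.1 hc
    rw [← hm']
    exact (Commute.zpow_zpow (Commute.refl D.y) m m').eq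
  calc C.relIndex N = Nat.card (N ⧸ C.subgroupOf N) := rfl
    _ ≤ Nat.card (Fin D.e) := Nat.card_le_card_of_surjective f hf
    _ = D.e := Nat.card_fin _

/-- There are `p + 1` Sylow `p`-subgroups and `e = (p - 1) / 2`. -/
def Small : Prop := (Subgroup.normalizer (D.P : Set G)).index = p + 1 ∧ 2 * D.e = p - 1

/-- A small constituent. -/
theorem index_of_small [IsSimpleGroup G] {U : Type w} [AddCommGroup U] [Module K U]
    [FiniteDimensional K U] (φ : G →* Module.End K U) (hU : 2 * finrank K U < p)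
    (hirr : ∀ W : Submodule K U, Invariant φ W → W = ⊥ ∨ W = ⊤) (hy1 : φ D.y ≠ 1) :
    D.Small := by
  obtain ⟨H, _, _, f, hf, hPc, -, -, k, hk, hidx, hdvd, hpos⟩ :=
    exists_conic_image hU φ hirr D.hP D.hsq D.hgen D.hy hy1
  have hinj : Function.Injective f := by
    rcases (inferInstance : f.ker.Normal).eq_bot_or_eq_top with h | h
    · exact (MonoidHom.ker_eq_bot_iff f).1 h
    · exfalso
      rw [(Subgroup.map_eq_bot_iff D.P).2 (h ▸ le_top), Subgroup.card_bot] at hPc
      exact hp.out.ne_one hPc.symm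
  have hr := relIndex_map_le (p := p) f hf D.hP D.hsq
  have h1 := Nat.le_of_dvd (by omega) hdvd
  have h2 := D.relIndex_le
  have h3 := D.two_mul_e_le
  have hk1 : k = 1 := by
    by_contra hne
    have : 2 * (p - 2) ≤ k * (p - 2) := Nat.mul_le_mul_right _ (by omega)
    have := D.seven_le
    omega
  rw [hk1, one_mul] at hidx h1
  refine ⟨?_, by omega⟩
  let e : G ≃* H := MulEquiv.ofBijective f ⟨hinj, hf⟩
  have he : (Subgroup.normalizer (D.P : Set G)).map e.toMonoidHom =
      Subgroup.normalizer ((D.P.map f : Subgroup H) : Set H) :=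
    Subgroup.map_equiv_normalizer_eq D.P e
  have h4 := Subgroup.index_map_equiv (Subgroup.normalizer (D.P : Set G)) e
  change ((Subgroup.normalizer (D.P : Set G)).map e.toMonoidHom).index = _ at h4
  rw [← h4, he, hidx, add_comm]

variable {V : Type w} [AddCommGroup V] [Module K V] [FiniteDimensional K V]
  (θ : G →* Module.End K V)

/-- Trivial composition factors only. -/
def Triv : Prop := (θ D.x).charpoly = (Polynomial.X - 1) ^ finrank K V

/-- One large constituent. -/
def One : Prop :=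
  ∃ (U : Type w) (_ : AddCommGroup U) (_ : Module K U) (_ : FiniteDimensional K U)
    (φ : G →* Module.End K U), (∀ W : Submodule K U, Invariant φ W → W = ⊥ ∨ W = ⊤) ∧
      φ D.y ≠ 1 ∧ p < 2 * finrank K U ∧ finrank K U ≤ p ∧ finrank K U ≤ finrank K V ∧
      (θ D.x).charpoly = (Polynomial.X - 1) ^ (finrank K V - finrank K U) * (φ D.x).charpoly

/-- Two constituents of dimension `(p + 1) / 2`. -/
def Two : Prop :=
  ∃ (U₁ : Type w) (_ : AddCommGroup U₁) (_ : Module K U₁) (_ : FiniteDimensional K U₁)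
    (φ₁ : G →* Module.End K U₁) (U₂ : Type w) (_ : AddCommGroup U₂) (_ : Module K U₂)
    (_ : FiniteDimensional K U₂) (φ₂ : G →* Module.End K U₂),
    (∀ W : Submodule K U₁, Invariant φ₁ W → W = ⊥ ∨ W = ⊤) ∧
    (∀ W : Submodule K U₂, Invariant φ₂ W → W = ⊥ ∨ W = ⊤) ∧
    φ₁ D.y ≠ 1 ∧ φ₂ D.y ≠ 1 ∧ 2 * finrank K U₁ = p + 1 ∧ 2 * finrank K U₂ = p + 1 ∧
    (θ D.x).charpoly = (φ₁ D.x).charpoly * (φ₂ D.x).charpoly

/-- The characteristic polynomial splits along an invariant subspace. -/
theorem charpoly_sub_quot {W : Submodule K V} (hW : Invariant θ W) :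
    (θ D.x).charpoly = (subAct θ hW D.x).charpoly * (quotAct θ hW D.x).charpoly := by
  classical
  set H := Subgroup.zpowers D.x
  let ρ : H →* Module.End K V := θ.comp H.subtype
  have hdvd : orderOf D.x ∣ D.e := orderOf_dvd_of_pow_eq_one D.hxe
  have hcard : (Nat.card H : K) ≠ 0 := by
    rw [Nat.card_zpowers]
    intro h0
    obtain ⟨c, hc⟩ := hdvd
    exact D.e_ne_zero (K := K) (by rw [hc, Nat.cast_mul, h0, zero_mul])
  obtain ⟨C, hC, hcompl⟩ := exists_invariant_compl ρ (W := W) (fun g v hv => hW g v hv) hcard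
  have hCx : ∀ v ∈ C, θ D.x v ∈ C := fun v hv => hC ⟨D.x, Subgroup.mem_zpowers D.x⟩ v hv
  have hconj : θ D.x = (Submodule.prodEquivOfIsCompl W C hcompl).conj
      (((θ D.x).restrict (hW D.x)).prodMap ((θ D.x).restrict hCx)) := by
    refine LinearMap.ext fun z => ?_
    obtain ⟨⟨a, b⟩, rfl⟩ := (Submodule.prodEquivOfIsCompl W C hcompl).surjective z
    rw [LinearEquiv.conj_apply_apply, LinearEquiv.symm_apply_apply]
    simp
  conv_lhs => rw [hconj]
  rw [LinearEquiv.charpoly_conj, LinearMap.charpoly_prodMap]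
  congr 1
  let eq := (Submodule.quotientEquivOfIsCompl W C hcompl).symm
  have : quotAct θ hW D.x = eq.conj ((θ D.x).restrict hCx) := by
    refine LinearMap.ext fun z => ?_
    obtain ⟨c, rfl⟩ := eq.surjective z
    rw [LinearEquiv.conj_apply_apply, LinearEquiv.symm_apply_apply,
      Submodule.quotientEquivOfIsCompl_symm_apply, Submodule.quotientEquivOfIsCompl_symm_apply]
    rfl
  rw [this, LinearEquiv.charpoly_conj]

theorem triv_of_y (h : θ D.y = 1) : D.Triv θ := by
  rw [Triv, eq_one_of_normalClosure θ D.hgen (eq_one_of_generator θ D.hy h) D.x,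
    LinearMap.charpoly_one]

/-- Constituents in dimension at most `p`. -/
theorem cases_le [IsSimpleGroup G] (d : ℕ) :
    ∀ (V : Type w) [AddCommGroup V] [Module K V] [FiniteDimensional K V] (θ : G →* Module.End K V),
      finrank K V = d → d ≤ p →
      D.Small ∨ D.Triv θ ∨ D.One θ := by
  induction d using Nat.strong_induction_on with
  | _ d ih =>
  intro V _ _ _ θ hd hdp
  by_cases hirr : ∀ W : Submodule K V, Invariant θ W → W = ⊥ ∨ W = ⊤
  · by_cases hy : θ D.y = 1
    · exact Or.inr (Or.inl (D.triv_of_y θ hy))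
    · by_cases hsmall : 2 * finrank K V < p
      · exact Or.inl (D.index_of_small θ hsmall hirr hy)
      · refine Or.inr (Or.inr ⟨V, inferInstance, inferInstance, inferInstance, θ, hirr, hy, ?_,
          hd.trans_le hdp, le_rfl, by rw [Nat.sub_self, pow_zero, one_mul]⟩)
        obtain ⟨i, hi⟩ := hp.out.odd_of_ne_two D.ne_two
        omega
  · simp only [not_forall, not_or] at hirr
    obtain ⟨W, hW, hWb, hWt⟩ := hirr
    have hsum := Submodule.finrank_quotient_add_finrank W
    have hWlt : finrank K W < d := by rw [← hd]; exact Submodule.finrank_lt hWt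
    have hWpos : 0 < finrank K W := Nat.pos_of_ne_zero fun h0 => hWb (Submodule.finrank_eq_zero.1 h0)
    have hQlt : finrank K (V ⧸ W) < d := by omega
    have hcp := D.charpoly_sub_quot θ hW
    rcases ih _ hWlt W (subAct θ hW) rfl (by omega) with h | h₁ | h₁
    · exact Or.inl h
    all_goals rcases ih _ hQlt (V ⧸ W) (quotAct θ hW) rfl (by omega) with h | h₂ | h₂
    · exact Or.inl h
    · refine Or.inr (Or.inl ?_)
      rw [Triv, hcp, h₁, h₂, ← pow_add]
      congr 1
      omega
    · obtain ⟨U, i1, i2, i3, φ, a1, a2, a3, a4, a5, a6⟩ := h₂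
      refine Or.inr (Or.inr ⟨U, i1, i2, i3, φ, a1, a2, a3, a4, by omega, ?_⟩)
      rw [hcp, h₁, a6, ← mul_assoc, ← pow_add]
      congr 2
      omega
    · exact Or.inl h
    · obtain ⟨U, i1, i2, i3, φ, a1, a2, a3, a4, a5, a6⟩ := h₁
      refine Or.inr (Or.inr ⟨U, i1, i2, i3, φ, a1, a2, a3, a4, by omega, ?_⟩)
      rw [hcp, h₂, a6, mul_comm, ← mul_assoc, ← pow_add]
      congr 2
      omega
    · obtain ⟨U, _, _, _, φ, -, -, a3, -, a5, -⟩ := h₁
      obtain ⟨U', _, _, _, φ', -, -, b3, -, b5, -⟩ := h₂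
      omega

/-- Constituents of a reducible module of dimension `p + 1`. -/
theorem reducible_cases [IsSimpleGroup G]
    (hd : finrank K V = p + 1) (hred : ¬ ∀ W : Submodule K V, Invariant θ W → W = ⊥ ∨ W = ⊤) :
    D.Small ∨ D.Triv θ ∨ D.One θ ∨ D.Two θ := by
  simp only [not_forall, not_or] at hred
  obtain ⟨W, hW, hWb, hWt⟩ := hred
  have hsum := Submodule.finrank_quotient_add_finrank W
  have hWlt : finrank K W < p + 1 := by rw [← hd]; exact Submodule.finrank_lt hWt
  have hWpos : 0 < finrank K W := Nat.pos_of_ne_zero fun h0 => hWb (Submodule.finrank_eq_zero.1 h0)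
  have hcp := D.charpoly_sub_quot θ hW
  rcases D.cases_le _ W (subAct θ hW) rfl (by omega) with h | h₁ | h₁
  · exact Or.inl h
  all_goals rcases D.cases_le _ (V ⧸ W) (quotAct θ hW) rfl (by omega) with h | h₂ | h₂
  · exact Or.inl h
  · refine Or.inr (Or.inl ?_)
    rw [Triv, hcp, h₁, h₂, ← pow_add]
    congr 1
    omega
  · obtain ⟨U, i1, i2, i3, φ, a1, a2, a3, a4, a5, a6⟩ := h₂
    refine Or.inr (Or.inr (Or.inl ⟨U, i1, i2, i3, φ, a1, a2, a3, a4, by omega, ?_⟩))
    rw [hcp, h₁, a6, ← mul_assoc, ← pow_add]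
    congr 2
    omega
  · exact Or.inl h
  · obtain ⟨U, i1, i2, i3, φ, a1, a2, a3, a4, a5, a6⟩ := h₁
    refine Or.inr (Or.inr (Or.inl ⟨U, i1, i2, i3, φ, a1, a2, a3, a4, by omega, ?_⟩))
    rw [hcp, h₂, a6, mul_comm, ← mul_assoc, ← pow_add]
    congr 2
    omega
  · obtain ⟨U, i1, i2, i3, φ, a1, a2, a3, -, a5, a6⟩ := h₁
    obtain ⟨U', j1, j2, j3, φ', b1, b2, b3, -, b5, b6⟩ := h₂
    refine Or.inr (Or.inr (Or.inr ⟨U, i1, i2, i3, φ, U', j1, j2, j3, φ', a1, b1, a2, b2, by omega,
      by omega, ?_⟩))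
    rw [hcp, a6, b6, Nat.sub_eq_zero_of_le (by omega), Nat.sub_eq_zero_of_le (by omega), pow_zero,
      one_mul, one_mul]

end Datum

end Cfsg.Agent.UniqueDegree
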