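import Cfsg.Agent.Lib.SmallDegree.Main

/-!
# The relative trace away from the fixed vectors

* `free_of_normalizer`: `P` of order `p`, exactly dividing `|G|`, is free on the non-trivial cosets
  of its normaliser.
* `sum_out_sub_mem`: a fixed vector of `N` has relative trace congruent to itself modulo the
  image of `(x - 1) ^ (p - 1)`.
* `relTr_sub_apply_mem`: hence `relTr π v - π v ∈ range ((x - 1) ^ (p - l))` when
  `(x - 1) ^ l v = 0`.
-/

set_option autoImplicit false
set_option linter.style.haveILetI false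

namespace Cfsg.Agent.UniqueDegree

open SmallDegree

universe u v w

variable {k : Type v} [Field k] {p : ℕ} [hp : Fact p.Prime] [CharP k p]
  {G : Type u} [Group G] [Finite G]

omit [CharP k p] in
theorem free_of_normalizer {P : Subgroup G} (hP : Nat.card P = p) (hsq : ¬ p ^ 2 ∣ Nat.card G) :
    ∀ g, g ∉ Subgroup.normalizer (P : Set G) → ∀ u ∈ P,
      g⁻¹ * u * g ∈ Subgroup.normalizer (P : Set G) → u = 1 := by
  intro g hg u hu hmem
  by_contra hu1
  have hup : u ^ p = 1 := pow_eq_one_of_mem_order' hP hu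
  have hy : g⁻¹ * u * g ∈ P := mem_of_pow_prime_eq_one hP hsq hmem (by
    rw [show g⁻¹ * u * g = g⁻¹ * u * g⁻¹⁻¹ by rw [inv_inv], conj_pow, hup]; group)
  have hzu : Subgroup.zpowers u = P := Subgroup.eq_of_le_of_card_ge (Subgroup.zpowers_le.2 hu)
    (by rw [hP, Nat.card_zpowers, orderOf_eq_prime hup hu1])
  have hgi : g⁻¹ ∈ Subgroup.normalizer (P : Set G) := by
    rw [Subgroup.mem_normalizer_iff_map_conj_eq]
    conv_lhs => rw [← hzu, MonoidHom.map_zpowers]
    refine Subgroup.eq_of_le_of_card_ge (Subgroup.zpowers_le.2 ?_) (le_of_eq ?_)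
    · show g⁻¹ * u * g⁻¹⁻¹ ∈ P
      rwa [inv_inv]
    · rw [hP, Nat.card_zpowers]
      exact ((orderOf_injective (MulAut.conj g⁻¹).toMonoidHom (MulAut.conj g⁻¹).injective u).trans
        (orderOf_eq_prime hup hu1)).symm
  exact hg (by simpa using inv_mem hgi)
where
  pow_eq_one_of_mem_order' {P : Subgroup G} (hP : Nat.card P = p) {u : G} (hu : u ∈ P) : u ^ p = 1 := by
    have := pow_card_eq_one' (x := (⟨u, hu⟩ : P))
    rw [hP] at this
    exact congrArg Subtype.val this

variable {W : Type w} [AddCommGroup W] [Module k W] (Θ : G →* Module.End k W)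
  {N P : Subgroup G} (hPN : P ≤ N) (hcard : Nat.card P = p) {x : G} (hx : Subgroup.zpowers x = P)

include hcard hx in
theorem sum_P_eq (v : W) :
    haveI := Fintype.ofFinite P
    ∑ u : P, Θ (u : G) v = ((Θ x - 1) ^ (p - 1)) v := by
  classical
  letI := Fintype.ofFinite P
  have hord : orderOf x = p := by rw [← Nat.card_zpowers, hx, hcard]
  have hxP : x ∈ P := hx ▸ Subgroup.mem_zpowers x
  have hbij : Function.Bijective fun i : Fin p => (⟨x ^ (i : ℕ), pow_mem hxP _⟩ : P) := by
    rw [Fintype.bijective_iff_injective_and_card]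
    refine ⟨fun i j h => Fin.ext ?_, by rw [Fintype.card_fin, ← Nat.card_eq_fintype_card, hcard]⟩
    exact pow_injOn_Iio_orderOf (by rw [hord]; exact i.2) (by rw [hord]; exact j.2)
      (congrArg Subtype.val h)
  rw [← hbij.sum_comp (fun u : P => Θ (u : G) v)]
  simp only [map_pow]
  rw [Fin.sum_univ_eq_sum_range (fun i => (Θ x ^ i) v), ← LinearMap.sum_apply,
    geom_sum_eq_sub_pow (k := k) (Θ x)]

include hPN hcard hx in
/-- The relative trace of a fixed vector of `N`. -/
theorem sum_out_sub_mem [Fintype (G ⧸ N)] (hfree : ∀ g, g ∉ N → ∀ u ∈ P, g⁻¹ * u * g ∈ N → u = 1) {w : W}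
    (hw : ∀ n ∈ N, Θ n w = w) :
    (∑ q : G ⧸ N, Θ q.out w) - w ∈ LinearMap.range ((Θ x - 1) ^ (p - 1)) := by
  classical
  letI := Fintype.ofFinite P
  set b : G ⧸ N := ((1 : G) : G ⧸ N) with hb
  have hbase : ∀ u : P, u • b = b := fun u => by
    show (((u : G) * 1 : G) : G ⧸ N) = _
    rw [mul_one]
    exact QuotientGroup.eq.2 (by simpa using hPN u.2)
  have hfr : ∀ (u : P) (c : G ⧸ N), c ≠ b → u • c = c → u = 1 := by
    intro u c hc hu
    obtain ⟨g, rfl⟩ := QuotientGroup.mk_surjective c
    have hg : g ∉ N := fun h => hc (QuotientGroup.eq.2 (by simpa using h))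
    refine Subtype.ext (hfree g hg u u.2 ?_)
    have h1 : (((u : G) * g : G) : G ⧸ N) = (g : G ⧸ N) := hu
    have := QuotientGroup.eq.1 h1.symm
    simpa [mul_assoc] using this
  let F : G ⧸ N → W := fun q => Θ q.out w
  have hFg : ∀ g : G, F (g : G ⧸ N) = Θ g w := fun g => by
    obtain ⟨n, hn⟩ := QuotientGroup.mk_out_eq_mul N g
    show Θ ((g : G ⧸ N)).out w = _
    rw [hn, act_mul, hw n n.2]
  have hsm : ∀ (u : P) (q : G ⧸ N), F (u • q) = Θ u (F q) := by
    intro u q
    obtain ⟨g, rfl⟩ := QuotientGroup.mk_surjective q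
    show F (((u : G) * g : G) : G ⧸ N) = _
    rw [hFg, hFg, act_mul]
  have hrest : ∑ q ∈ Finset.univ.erase b, F q ∈ LinearMap.range ((Θ x - 1) ^ (p - 1)) := by
    rw [← Finset.sum_fiberwise (Finset.univ.erase b)
      (Quotient.mk (MulAction.orbitRel P (G ⧸ N)))]
    refine sum_mem fun o _ => ?_
    by_cases he : ((Finset.univ.erase b).filter
        (fun c => Quotient.mk (MulAction.orbitRel P (G ⧸ N)) c = o)).Nonempty
    · obtain ⟨c₀, hc₀⟩ := he
      obtain ⟨hc₀b, hc₀o⟩ := Finset.mem_filter.1 hc₀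
      have hc₀1 : c₀ ≠ b := Finset.ne_of_mem_erase hc₀b
      have himg : (Finset.univ.erase b).filter
          (fun c => Quotient.mk (MulAction.orbitRel P (G ⧸ N)) c = o) =
          Finset.univ.image (fun q : P => q • c₀) := by
        ext c
        simp only [Finset.mem_filter, Finset.mem_erase, Finset.mem_univ, and_true,
          Finset.mem_image, true_and]
        constructor
        · rintro ⟨-, hco⟩
          exact Quotient.exact (hco.trans hc₀o.symm)
        · rintro ⟨q, rfl⟩
          refine ⟨fun h => hc₀1 ?_, (Quotient.sound (MulAction.mem_orbit c₀ q)).trans hc₀o⟩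
          have := congrArg (fun c => q⁻¹ • c) h
          simpa [hbase] using this
      rw [himg, Finset.sum_image fun q _ r _ hqr => ?_]
      · simp only [hsm]
        exact ⟨F c₀, (sum_P_eq Θ hcard hx (F c₀)).symm⟩
      · have : (r⁻¹ * q) • c₀ = c₀ := by rw [mul_smul]; simp [hqr]
        exact (inv_mul_eq_one.1 (hfr _ c₀ hc₀1 this)).symm
    · rw [Finset.not_nonempty_iff_eq_empty.1 he, Finset.sum_empty]
      exact zero_mem _
  rw [← Finset.add_sum_erase _ _ (Finset.mem_univ b)]
  show F b + ∑ q ∈ Finset.univ.erase b, F q - w ∈ _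
  rw [hb, hFg, act_one, add_sub_cancel_left]
  exact hrest

variable {V : Type w} [AddCommGroup V] [Module k V] (θ : G →* Module.End k V)

omit [Finite G] [CharP k p] hp in
/-- Iterated commutators push vectors down. -/
theorem adAct_sub_one_pow_apply_mem {y : G} (j : ℕ) :
    ∀ (h : Module.End k V) (l : ℕ) (v : V), ((θ y - 1) ^ l) v = 0 →
      (((adAct θ y - 1) ^ j) h) v ∈ LinearMap.range ((θ y - 1) ^ (j + 1 - l)) := by
  induction j with
  | zero =>
    intro h l v hv
    rcases Nat.eq_zero_or_pos l with rfl | hl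
    · rw [pow_zero, Module.End.one_apply] at hv
      rw [hv, map_zero]
      exact zero_mem _
    · rw [show 0 + 1 - l = 0 by omega]
      exact ⟨_, Module.End.one_apply _⟩
  | succ j ih =>
    intro h l v hv
    set T := θ y - 1 with hT
    set g := (((adAct θ y - 1) ^ j : Module.End k (Module.End k V))) h with hg
    set w := θ y⁻¹ v with hw
    have hc : Commute T (θ y⁻¹) := by
      refine Commute.sub_left ?_ (Commute.one_left _)
      show θ y * θ y⁻¹ = θ y⁻¹ * θ y
      rw [← map_mul, ← map_mul, mul_inv_cancel, inv_mul_cancel]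
    have hwl : (T ^ l) w = 0 := by
      rw [hw, ← Module.End.mul_apply, (hc.pow_left l).eq, Module.End.mul_apply, hv, map_zero]
    have he : (((adAct θ y - 1) ^ (j + 1) : Module.End k (Module.End k V)) h) v = T (g w) - g (T w) := by
      rw [pow_succ', Module.End.mul_apply, ← hg, LinearMap.sub_apply, adAct_apply, Module.End.one_apply,
        LinearMap.sub_apply, Module.End.mul_apply, Module.End.mul_apply, hT, LinearMap.sub_apply,
        LinearMap.sub_apply, Module.End.one_apply, Module.End.one_apply, map_sub]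
      rw [hw, act_act_inv]
      abel
    rw [he]
    refine sub_mem ?_ ?_
    · obtain ⟨z, hz⟩ := ih h l w hwl
      rw [← hg] at hz
      rw [← hz, ← Module.End.mul_apply, ← pow_succ']
      by_cases hl : l ≤ j + 1
      · rw [show j + 1 + 1 - l = j + 1 - l + 1 by omega]
        exact ⟨z, rfl⟩
      · rw [show j + 1 + 1 - l = 0 by omega]
        exact ⟨_, Module.End.one_apply _⟩
    · rcases Nat.eq_zero_or_pos l with rfl | hl
      · rw [pow_zero, Module.End.one_apply] at hwl
        rw [hwl, map_zero, map_zero]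
        exact zero_mem _
      · have h1 := ih h (l - 1) (T w) (by
          rw [← Module.End.mul_apply, ← pow_succ, show l - 1 + 1 = l by omega, hwl])
        rw [← hg] at h1
        rwa [show j + 1 + 1 - l = j + 1 - (l - 1) by omega]

include hPN hcard hx in
/-- The relative trace, on a vector killed by `(x - 1) ^ l`. -/
theorem relTr_sub_apply_mem (hfree : ∀ g, g ∉ N → ∀ u ∈ P, g⁻¹ * u * g ∈ N → u = 1)
    (π : Module.End k V) (hπN : ∀ n ∈ N, θ n * π = π * θ n) {l : ℕ} {v : V}
    (hv : ((θ x - 1) ^ l) v = 0) :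
    relTr θ N π v - π v ∈ LinearMap.range ((θ x - 1) ^ (p - l)) := by
  classical
  letI := Fintype.ofFinite (G ⧸ N)
  have hfix : ∀ n ∈ N, adAct θ n π = π := fun n hn => by
    rw [adAct_apply, hπN n hn, mul_assoc, ← map_mul, mul_inv_cancel, map_one, mul_one]
  obtain ⟨h, hh⟩ := sum_out_sub_mem (adAct θ) hPN hcard hx hfree hfix
  have hsum : relTr θ N π = ∑ q : G ⧸ N, adAct θ q.out π := by
    simp only [relTr, adAct_apply]
  rw [← LinearMap.sub_apply, hsum, ← hh]
  have h1 := adAct_sub_one_pow_apply_mem θ (y := x) (p - 1) h l v hv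
  rwa [Nat.sub_add_cancel hp.out.one_le] at h1

end Cfsg.Agent.UniqueDegree
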