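import Cfsg.Agent.Lib.UniqueDegree.Strings
import Cfsg.Agent.Lib.UniqueDegree.Transfer

/-!
# An irreducible module of dimension at most `p` is a single string

* `Datum`: `P = ⟨y⟩` of order `p` exactly dividing `|G|`, normally generating, with normaliser
  `⟨y⟩⟨x⟩`, where `x ^ e = 1` and `x` raises `y` to a power of order `e` modulo `p`.
* `Datum.IsString`: a basis `v, A v, …, A ^ (s - 1) v` of eigenvectors of `x`, for the weight-one
  part `A` of `y`.
* `Datum.irreducible_string`: a non-trivial irreducible module of dimension at most `p` has one.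
-/

set_option autoImplicit false
set_option linter.style.haveILetI false
set_option linter.unusedSectionVars false

namespace Cfsg.Agent.UniqueDegree

open SmallDegree Module Polynomial DerivedLength

universe u v w

/-- The Sylow normaliser and its action. -/
structure Datum (p : ℕ) (G : Type u) [Group G] where
  P : Subgroup G
  y : G
  x : G
  a : ℕ
  e : ℕ
  hP : Nat.card P = p
  hsq : ¬ p ^ 2 ∣ Nat.card G
  hgen : Subgroup.normalClosure (P : Set G) = ⊤
  hy : Subgroup.zpowers y = P
  hxy : x * y * x⁻¹ = y ^ a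
  hxe : x ^ e = 1
  hN : ∀ n ∈ Subgroup.normalizer (P : Set G), ∃ i j : ℕ, n = y ^ i * x ^ j
  h3 : 3 ≤ e
  hodd : Odd e
  hep : e ∣ p - 1
  ha : IsPrimitiveRoot (a : ZMod p) e

namespace Datum

variable {p : ℕ} [hp : Fact p.Prime] {G : Type u} [Group G] [Finite G] (D : Datum p G)
  {K : Type v} [Field K] [CharP K p] {V : Type w} [AddCommGroup V] [Module K V]
  (θ : G →* Module.End K V)

include D in
theorem two_mul_e_le : 2 * D.e ≤ p - 1 := by
  obtain ⟨d, hd⟩ := D.hep
  obtain ⟨j, hj⟩ := D.hodd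
  have h2 := hp.out.two_le
  rcases d with _ | _ | d
  · omega
  · exfalso
    have h3 := D.h3
    obtain ⟨i, hi⟩ := hp.out.odd_of_ne_two (by omega)
    omega
  · rw [hd]; nlinarith

include D in
theorem seven_le : 7 ≤ p := by
  have := D.two_mul_e_le
  have := D.h3
  omega

include D in
theorem ne_two : p ≠ 2 := by have := D.seven_le; omega

include D in
theorem e_ne_zero : (D.e : K) ≠ 0 :=
  cast_lt_ne_zero K p (by have := D.h3; omega) (by have := D.two_mul_e_le; have := D.h3; omega)

include D in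
theorem prim : IsPrimitiveRoot (D.a : K) D.e := by
  have := D.ha.map_of_injective (f := ZMod.castHom dvd_rfl K) (ZMod.castHom dvd_rfl K).injective
  rwa [map_natCast] at this

include D in
theorem a_ne_zero : (D.a : K) ≠ 0 := (D.prim (K := K)).ne_zero (by have := D.h3; omega)

theorem y_pow : D.y ^ p = 1 := by
  have h : orderOf D.y = p := by rw [← Nat.card_zpowers, D.hy, D.hP]
  have := pow_orderOf_eq_one D.y
  rwa [h] at this

theorem y_mem : D.y ∈ D.P := D.hy ▸ Subgroup.mem_zpowers D.y

theorem P_le : D.P ≤ Subgroup.normalizer (D.P : Set G) := Subgroup.le_normalizer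

/-- The weight-one part of `y`. -/
noncomputable def A : Module.End K V := wOne K p (θ D.y)

theorem T_pow : (θ D.y - 1) ^ p = 0 := by
  rcases subsingleton_or_nontrivial V with h | h
  · exact LinearMap.ext fun v => Subsingleton.elim _ _
  haveI : CharP (Module.End K V) p := charP_of_injective_algebraMap
    (FaithfulSMul.algebraMap_injective K (Module.End K V)) p
  rw [sub_pow_char_of_commute p (Commute.one_right _), one_pow, ← map_pow, D.y_pow, map_one, sub_self]

theorem tExp_A : tExp K p (D.A θ) = θ D.y := tExp_wOne K p (θ D.y) D.ne_two (D.T_pow θ) le_rfl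

theorem A_pow_p : D.A θ ^ p = 0 := by
  have hn : p - 1 + 1 = p := Nat.sub_add_cancel hp.out.one_le
  have := (wOne_pow_eq K p (θ D.y) D.ne_two (n := p - 1) ((congrArg _ hn).trans (D.T_pow θ))).1
  exact (congrArg _ hn).symm.trans this

/-- `x` scales `A` by `a`. -/
theorem scale : θ D.x * D.A θ = (D.a : K) • (D.A θ * θ D.x) := by
  have hconj : ∀ c : ℕ, θ D.x * θ D.y ^ c = (θ D.y ^ D.a) ^ c * θ D.x := fun c => by
    rw [← map_pow, ← map_pow, ← map_mul, ← map_pow, ← map_mul]
    congr 1
    rw [← D.hxy, conj_pow, inv_mul_cancel_right]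
  have h1 : wOne K p (θ D.y ^ D.a) = (D.a : K) • D.A θ := by
    rw [← D.tExp_A θ, tExp_pow K p _ (D.A_pow_p θ) le_rfl, wOne_tExp K p _
      (by rw [smul_pow, D.A_pow_p θ, smul_zero]) le_rfl D.ne_two]
  have h2 : θ D.x * D.A θ = wOne K p (θ D.y ^ D.a) * θ D.x := by
    simp only [A, wOne, mul_neg, neg_mul, Finset.mul_sum, Finset.sum_mul, mul_smul_comm,
      smul_mul_assoc, hconj]
  rw [h2, h1, smul_mul_assoc]

theorem x_pow : θ D.x ^ D.e = 1 := by rw [← map_pow, D.hxe, map_one]

/-- Commuting with `x` and `A` gives commuting with the normaliser. -/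
theorem commute_normalizer {π : Module.End K V} (hA : Commute (D.A θ) π) (hx : Commute (θ D.x) π) :
    ∀ n ∈ Subgroup.normalizer (D.P : Set G), θ n * π = π * θ n := by
  intro n hn
  obtain ⟨i, j, rfl⟩ := D.hN n hn
  have hy : Commute (θ D.y) π := by
    rw [← D.tExp_A θ]
    exact Commute.sum_left _ _ _ fun r _ => (hA.pow_left r).smul_left _
  rw [map_mul, map_pow, map_pow]
  exact ((hy.pow_left i).mul_left (hx.pow_left j)).eq

/-- A spanning string of length `s` from `v` of weight `μ`. -/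
def IsString (s : ℕ) (v : V) (μ : K) : Prop :=
  μ ^ D.e = 1 ∧ θ D.x v = μ • v ∧ (θ D.y - 1) ^ s = 0 ∧
    D.A θ ^ s = 0 ∧ D.A θ ^ (s - 1) = (θ D.y - 1) ^ (s - 1) ∧
    LinearIndependent K (fun i : Fin s => (D.A θ ^ (i : ℕ)) v) ∧
    Submodule.span K (Set.range fun i : Fin s => (D.A θ ^ (i : ℕ)) v) = ⊤

theorem IsString.charpoly [FiniteDimensional K V] {s : ℕ} {v : V} {μ : K}
    (h : D.IsString θ s v μ) :
    (θ D.x).charpoly = ∏ j ∈ Finset.range s, (Polynomial.X - C ((D.a : K) ^ j * μ)) := by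
  obtain ⟨-, hv, -, -, -, hli, hsp⟩ := h
  exact charpoly_string (D.scale θ) hv hli hsp

/-- Schur's lemma. -/
theorem exists_smul_of_comm [IsAlgClosed K] [FiniteDimensional K V] [Nontrivial V]
    (hirr : ∀ W : Submodule K V, Invariant θ W → W = ⊥ ∨ W = ⊤) {τ : Module.End K V}
    (hτ : ∀ g, θ g * τ = τ * θ g) : ∃ c : K, ∀ v, τ v = c • v := by
  obtain ⟨c, hc⟩ := Module.End.exists_eigenvalue τ
  refine ⟨c, fun v => ?_⟩
  rcases hirr (τ.eigenspace c) (fun g w hw => by
    rw [End.mem_eigenspace_iff] at hw ⊢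
    rw [← End.mul_apply, ← hτ g, End.mul_apply, hw, map_smul]) with h | h
  · exact absurd h hc
  · exact End.mem_eigenspace_iff.1 (h ▸ Submodule.mem_top)

/-- An irreducible module of dimension at most `p` is a string. -/
theorem irreducible_string [IsAlgClosed K] [FiniteDimensional K V]
    (hirr : ∀ W : Submodule K V, Invariant θ W → W = ⊥ ∨ W = ⊤) (hy1 : θ D.y ≠ 1)
    (hs : finrank K V ≤ p ∨ (θ D.y - 1) ^ (p - 1) = 0) :
    ∃ v μ, D.IsString θ (finrank K V) v μ := by
  classical
  haveI : Nontrivial V := by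
    by_contra h
    rw [not_nontrivial_iff_subsingleton] at h
    exact hy1 (LinearMap.ext fun v => Subsingleton.elim _ _)
  have hfin : (θ D.y - 1) ^ finrank K V = 0 := by
    have h1 := LinearMap.aeval_self_charpoly (θ D.y - 1)
    rw [IsNilpotent.charpoly_eq_X_pow_finrank ⟨p, D.T_pow θ⟩] at h1
    simpa using h1
  have hex : ∃ l, (θ D.y - 1) ^ l = 0 := ⟨_, hfin⟩
  obtain ⟨n, hn⟩ : ∃ n, Nat.find hex = n + 1 := by
    refine Nat.exists_eq_add_one_of_ne_zero fun h0 => ?_
    have := Nat.find_spec hex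
    rw [h0, pow_zero] at this
    exact one_ne_zero this
  have hT : (θ D.y - 1) ^ (n + 1) = 0 := hn ▸ Nat.find_spec hex
  have hTn : (θ D.y - 1) ^ n ≠ 0 := Nat.find_min hex (by omega)
  have hnle : n + 1 ≤ finrank K V := hn ▸ Nat.find_le hfin
  obtain ⟨hA, hAn⟩ := wOne_pow_eq K p (θ D.y) D.ne_two hT
  obtain ⟨v, μ, W, hμ, hv, hvn, hWA, hWx, hli, hcompl⟩ := exists_string (T := θ D.x) (A := D.A θ)
    D.e_ne_zero (D.x_pow θ) D.a_ne_zero (D.scale θ) (n := n) hA (by rw [A, hAn]; exact hTn)
  set S := Submodule.span K (Set.range fun i : Fin (n + 1) => (D.A θ ^ (i : ℕ)) v) with hS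
  rcases eq_or_lt_of_le hnle with heq | hlt
  · refine ⟨v, μ, ?_⟩
    rw [← heq]
    refine ⟨hμ, hv, hT, hA, hAn, hli, Submodule.eq_top_of_finrank_eq ?_⟩
    rw [finrank_span_eq_card hli, Fintype.card_fin, heq]
  exfalso
  have hd : (θ D.y - 1) ^ (p - 1) = 0 :=
    hs.elim (fun h => pow_eq_zero_of_le (by omega) hT) id
  have hWne : W ≠ ⊥ := fun h => by
    have h1 := Submodule.finrank_add_eq_of_isCompl hcompl
    rw [h, finrank_bot, add_zero, finrank_span_eq_card hli, Fintype.card_fin] at h1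
    omega
  set π := S.projection W hcompl with hπ
  have hπS : ∀ w ∈ S, π w = w := fun w hw => Submodule.projection_apply_of_mem_left hcompl hw
  have hπW : ∀ w ∈ W, π w = 0 := fun w hw => by
    rw [hπ, Submodule.projection_apply, (Submodule.projectionOnto_apply_eq_zero_iff hcompl).2 hw]
    rfl
  have hSinv : ∀ f : Module.End K V, (∀ i : Fin (n + 1), f ((D.A θ ^ (i : ℕ)) v) ∈ S) →
      ∀ w ∈ S, f w ∈ S := fun f hf w hw => by
    have : S ≤ S.comap f := Submodule.span_le.2 (by rintro _ ⟨i, rfl⟩; exact hf i)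
    exact this hw
  have hcomm : ∀ f : Module.End K V, (∀ w ∈ S, f w ∈ S) → (∀ w ∈ W, f w ∈ W) → Commute f π := by
    intro f hfS hfW
    refine LinearMap.ext fun z => ?_
    obtain ⟨s, hs', w, hw, rfl⟩ := Submodule.mem_sup.1 (hcompl.sup_eq_top ▸ Submodule.mem_top (x := z))
    simp only [End.mul_apply, map_add, hπS s hs', hπW w hw, hπS _ (hfS s hs'), hπW _ (hfW w hw),
      map_zero, add_zero]
  have hπA : Commute (D.A θ) π := hcomm _ (hSinv _ fun i => by
    rw [← End.mul_apply, ← pow_succ']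
    by_cases hi : (i : ℕ) + 1 < n + 1
    · exact Submodule.subset_span ⟨⟨_, hi⟩, rfl⟩
    · rw [pow_eq_zero_of_le (by omega) (show D.A θ ^ (n + 1) = 0 from hA), LinearMap.zero_apply]
      exact zero_mem _) hWA
  have hπx : Commute (θ D.x) π := hcomm _ (hSinv _ fun i => by
    rw [apply_string (D.scale θ) hv]
    exact Submodule.smul_mem _ _ (Submodule.subset_span ⟨i, rfl⟩)) hWx
  have hπN := D.commute_normalizer θ hπA hπx
  have hfree := free_of_normalizer D.hP D.hsq
  set τ := relTr θ (Subgroup.normalizer (D.P : Set G)) π with hτ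
  obtain ⟨c, hc⟩ := exists_smul_of_comm θ hirr (fun g => relTr_comm θ π hπN g)
  have hagree : ∀ w, θ D.y w = w → τ w = π w := fun w hw =>
    relTr_apply_fixed θ D.P_le π hπN D.hP D.hy hfree hd hw
  -- on the socle of the string
  have hs0 : θ D.y ((D.A θ ^ n) v) = (D.A θ ^ n) v := by
    refine sub_eq_zero.1 ?_
    rw [show D.A θ ^ n = (θ D.y - 1) ^ n from hAn]
    have := LinearMap.congr_fun hT v
    rw [pow_succ', End.mul_apply, LinearMap.sub_apply, End.one_apply] at this
    exact this
  have hsS : (D.A θ ^ n) v ∈ S := Submodule.subset_span ⟨⟨n, by omega⟩, rfl⟩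
  have h1 : c = 1 := by
    have := hagree _ hs0
    rw [hc, hπS _ hsS] at this
    exact sub_eq_zero.1 ((smul_eq_zero.1 (show (c - 1) • (D.A θ ^ n) v = 0 by
      rw [sub_smul, one_smul, this, sub_self])).resolve_right hvn)
  -- on the complement
  have hWy : ∀ w ∈ W, θ D.y w ∈ W := fun w hw => by
    rw [← D.tExp_A θ, tExp, LinearMap.sum_apply]
    refine sum_mem fun r _ => ?_
    rw [LinearMap.smul_apply]
    refine Submodule.smul_mem _ _ ?_
    clear * - hWA hw
    induction r with
    | zero => simpa using hw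
    | succ r ih => rw [pow_succ', End.mul_apply]; exact hWA _ ih
  obtain ⟨w, hw, hwy, hw0⟩ := exists_fixed hd hWy hWne
  have := hagree w hwy
  rw [hc, h1, one_smul, hπW w hw] at this
  exact hw0 this

end Datum

end Cfsg.Agent.UniqueDegree
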