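import Mathlib.LinearAlgebra.Eigenspace.Semisimple
import Mathlib.LinearAlgebra.Charpoly.ToMatrix
import Mathlib.LinearAlgebra.Matrix.Charpoly.Coeff
import Mathlib.FieldTheory.KummerExtension
import Mathlib.FieldTheory.Separable
import Mathlib.LinearAlgebra.Trace

/-!
# Strings of a nilpotent operator scaled by a semisimple one

Let `X ^ e = 1` with `e` invertible and `X A = a A X` for a nilpotent `A` of index `l`. There is an
eigenvector `v` of `X` whose string `v, A v, …, A ^ (l - 1) v` has an invariant complement.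

* `exists_eigenbasis`, `charpoly_of_eigenbasis`, `trace_pow_of_eigenbasis`;
* `exists_string`, `charpoly_string`;
* `prod_shift`: `∏ (X - a ^ j μ)` over `q` full periods and a remainder.
-/

set_option autoImplicit false
set_option linter.style.haveILetI false
set_option linter.unusedSectionVars false

namespace Cfsg.Agent.UniqueDegree

open Module Polynomial

universe v w

variable {K : Type v} [Field K] {V : Type w} [AddCommGroup V] [Module K V]

theorem charpoly_of_eigenbasis {ι : Type*} [Fintype ι] [DecidableEq ι] (b : Basis ι K V)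
    [FiniteDimensional K V] {f : End K V} {c : ι → K} (h : ∀ i, f (b i) = c i • b i) :
    f.charpoly = ∏ i, (X - C (c i)) := by
  have : LinearMap.toMatrix b b f = Matrix.diagonal c := by
    ext i j
    rw [LinearMap.toMatrix_apply, h, map_smul, Basis.repr_self, Finsupp.smul_single, smul_eq_mul,
      mul_one, Finsupp.single_apply, Matrix.diagonal_apply]
    by_cases hij : j = i
    · subst hij; simp
    · rw [if_neg hij, if_neg (Ne.symm hij)]
  rw [← LinearMap.charpoly_toMatrix f b, this, Matrix.charpoly_diagonal]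

theorem trace_pow_of_eigenbasis {ι : Type*} [Fintype ι] [DecidableEq ι] (b : Basis ι K V)
    {f : End K V} {c : ι → K} (h : ∀ i, f (b i) = c i • b i) (j : ℕ) :
    LinearMap.trace K V (f ^ j) = ∑ i, c i ^ j := by
  rw [LinearMap.trace_eq_matrix_trace K b, Matrix.trace]
  refine Finset.sum_congr rfl fun i _ => ?_
  have : (f ^ j) (b i) = c i ^ j • b i := by
    induction j with
    | zero => simp
    | succ j ih => rw [pow_succ', End.mul_apply, ih, map_smul, h, smul_smul, pow_succ]
  simp [LinearMap.toMatrix_apply, this]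

/-- An eigenbasis of an operator of finite order prime to the characteristic. -/
theorem exists_eigenbasis [IsAlgClosed K] [FiniteDimensional K V] {f : End K V} {e : ℕ}
    (he : (e : K) ≠ 0) (hf : f ^ e = 1) :
    ∃ (b : Basis (Fin (finrank K V)) K V) (c : Fin (finrank K V) → K),
      ∀ i, f (b i) = c i • b i ∧ c i ^ e = 1 := by
  classical
  have hsq : Squarefree (X ^ e - 1 : K[X]) := by
    refine (Polynomial.Separable.squarefree ?_)
    rw [← map_one C]
    exact separable_X_pow_sub_C 1 he one_ne_zero
  have hss : f.IsSemisimple :=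
    End.isSemisimple_of_squarefree_aeval_eq_zero hsq (by simp [hf])
  have hint : DirectSum.IsInternal fun μ => f.eigenspace μ :=
    DirectSum.isInternal_submodule_of_iSupIndep_of_iSup_eq_top f.eigenspaces_iSupIndep
      hss.iSup_eigenspace_eq_top
  let b0 := hint.collectedBasis fun μ => finBasis K (f.eigenspace μ)
  haveI := FiniteDimensional.fintypeBasisIndex b0
  let σ := (b0.indexEquiv (finBasis K V))
  refine ⟨b0.reindex σ, fun i => (σ.symm i).1, fun i => ?_⟩
  have hmem := hint.collectedBasis_mem (fun μ => finBasis K (f.eigenspace μ)) (σ.symm i)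
  have h1 : f (b0 (σ.symm i)) = (σ.symm i).1 • b0 (σ.symm i) := End.mem_eigenspace_iff.1 hmem
  rw [Basis.reindex_apply]
  refine ⟨h1, ?_⟩
  have h2 : ∀ j : ℕ, (f ^ j) (b0 (σ.symm i)) = (σ.symm i).1 ^ j • b0 (σ.symm i) := fun j => by
    induction j with
    | zero => simp
    | succ j ih => rw [pow_succ', End.mul_apply, ih, map_smul, h1, smul_smul, pow_succ]
  have h3 := h2 e
  rw [hf, End.one_apply] at h3
  exact (smul_left_injective K (b0.ne_zero _) (by simpa using h3.symm))

variable {A T : End K V} {a : K}

theorem scale_pow (h : T * A = a • (A * T)) (i : ℕ) : T * A ^ i = a ^ i • (A ^ i * T) := by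
  induction i with
  | zero => simp
  | succ i ih =>
    rw [pow_succ, ← mul_assoc, ih, smul_mul_assoc, mul_assoc, h, mul_smul_comm, smul_smul, mul_assoc,
      ← pow_succ]

theorem apply_string (h : T * A = a • (A * T)) {v : V} {μ : K} (hv : T v = μ • v) (i : ℕ) :
    T ((A ^ i) v) = (a ^ i * μ) • (A ^ i) v := by
  have := LinearMap.congr_fun (scale_pow h i) v
  simp only [End.mul_apply, LinearMap.smul_apply, hv, map_smul, smul_smul] at this
  exact this

/-- A string with an invariant complement. -/
theorem exists_string [IsAlgClosed K] [FiniteDimensional K V] {e : ℕ} (he : (e : K) ≠ 0)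
    (hT : T ^ e = 1) (ha : a ≠ 0) (h : T * A = a • (A * T)) {n : ℕ} (hA : A ^ (n + 1) = 0)
    (hn : A ^ n ≠ 0) :
    ∃ (v : V) (μ : K) (W : Submodule K V), μ ^ e = 1 ∧ T v = μ • v ∧ (A ^ n) v ≠ 0 ∧
      (∀ w ∈ W, A w ∈ W) ∧ (∀ w ∈ W, T w ∈ W) ∧
      LinearIndependent K (fun i : Fin (n + 1) => (A ^ (i : ℕ)) v) ∧
      IsCompl (Submodule.span K (Set.range fun i : Fin (n + 1) => (A ^ (i : ℕ)) v)) W := by
  classical
  obtain ⟨b, c, hb⟩ := exists_eigenbasis he hT
  obtain ⟨i₀, hi₀⟩ : ∃ i, (A ^ n) (b i) ≠ 0 := by
    by_contra hh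
    push Not at hh
    exact hn (b.ext fun i => by rw [hh i, LinearMap.zero_apply])
  set v := b i₀ with hvdef
  set μ := c i₀ with hμ
  set s := (A ^ n) v with hs
  have hTs : T s = (a ^ n * μ) • s := apply_string h (hb i₀).1 n
  obtain ⟨k, hk⟩ : ∃ k, b.repr s k ≠ 0 := by
    by_contra hh
    push Not at hh
    exact hi₀ (b.repr.map_eq_zero_iff.1 (Finsupp.ext hh))
  set φ : V →ₗ[K] K := (b.repr s k)⁻¹ • b.coord k with hφ
  have hφs : φ s = 1 := by simp [hφ, inv_mul_cancel₀ hk]
  have hcoord : ∀ w, b.coord k (T w) = c k * b.coord k w := by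
    intro w
    have : (b.coord k).comp T = c k • b.coord k := b.ext fun i => by
      rw [LinearMap.comp_apply, (hb i).1, map_smul, LinearMap.smul_apply, Basis.coord_apply,
        Basis.repr_self, Finsupp.single_apply, smul_eq_mul, smul_eq_mul]
      by_cases hik : i = k
      · subst hik; simp
      · simp [if_neg hik]
    exact LinearMap.congr_fun this w
  have hφT : ∀ w, φ (T w) = c k * φ w := fun w => by
    simp only [hφ, LinearMap.smul_apply, hcoord, smul_eq_mul]; ring
  let L : V →ₗ[K] (Fin (n + 1) → K) := LinearMap.pi fun i => φ.comp (A ^ (i : ℕ))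
  let Gm : (Fin (n + 1) → K) →ₗ[K] V :=
    Fintype.linearCombination K fun i : Fin (n + 1) => (A ^ (i : ℕ)) v
  have hinj : Function.Injective (L.comp Gm) := by
    refine (injective_iff_map_eq_zero _).2 fun r hr => ?_
    have hzero : ∀ j : ℕ, ∀ hj : j < n + 1, r ⟨j, hj⟩ = 0 := by
      intro j
      induction j using Nat.strong_induction_on with
      | _ j ih =>
        intro hj
        have h1 : φ ((A ^ (n - j)) (Gm r)) = 0 := congrFun hr ⟨n - j, by omega⟩
        simp only [Gm, Fintype.linearCombination_apply, map_sum, map_smul] at h1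
        rw [Finset.sum_eq_single ⟨j, hj⟩] at h1
        · simp only [← End.mul_apply, ← pow_add, show n - j + j = n by omega] at h1
          rw [← hs, hφs] at h1
          simpa using h1
        · intro i _ hi
          have hne : (i : ℕ) ≠ j := fun e => hi (Fin.ext e)
          rcases lt_or_gt_of_ne hne with hlt | hgt
          · rw [ih i hlt i.2, zero_smul]
          · rw [← End.mul_apply, ← pow_add, pow_eq_zero_of_le (by omega) hA, LinearMap.zero_apply,
              map_zero, smul_zero]
        · exact fun h => absurd (Finset.mem_univ _) h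
    exact funext fun i => hzero i i.2
  have hsurj : Function.Surjective (L.comp Gm) := LinearMap.injective_iff_surjective.1 hinj
  have hrange : LinearMap.range Gm =
      Submodule.span K (Set.range fun i : Fin (n + 1) => (A ^ (i : ℕ)) v) :=
    Fintype.range_linearCombination K _
  refine ⟨v, μ, LinearMap.ker L, (hb i₀).2, (hb i₀).1, hi₀, ?_, ?_, ?_, ?_⟩
  · intro w hw
    refine funext fun i => ?_
    show φ ((A ^ (i : ℕ)) (A w)) = 0
    rw [← End.mul_apply, ← pow_succ]
    by_cases hi : (i : ℕ) + 1 < n + 1
    · exact congrFun hw ⟨_, hi⟩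
    · rw [pow_eq_zero_of_le (by omega) hA, LinearMap.zero_apply, map_zero]
  · intro w hw
    refine funext fun i => ?_
    show φ ((A ^ (i : ℕ)) (T w)) = 0
    have h1 := LinearMap.congr_fun (scale_pow h (i : ℕ)) w
    simp only [End.mul_apply, LinearMap.smul_apply] at h1
    have h2 : φ ((A ^ (i : ℕ)) w) = 0 := congrFun hw i
    have h3 := congrArg φ h1
    rw [hφT, h2, mul_zero, map_smul, smul_eq_mul] at h3
    exact (mul_eq_zero.1 h3.symm).resolve_left (pow_ne_zero _ ha)
  · have hG : Function.Injective Gm := fun x y hxy => hinj (congrArg L hxy)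
    exact Fintype.linearIndependent_iff.2 fun r hr i =>
      congrFun (hG (show Gm r = Gm 0 by rw [map_zero]; simpa [Gm, Fintype.linearCombination_apply] using hr)) i
  · rw [← hrange]
    refine ⟨Submodule.disjoint_def.2 ?_, codisjoint_iff.2 (eq_top_iff.2 fun w _ => ?_)⟩
    · rintro _ ⟨r, rfl⟩ hr
      rw [hinj (show L (Gm r) = L (Gm 0) by rw [map_zero Gm, map_zero L]; exact hr), map_zero]
    · obtain ⟨r, hr⟩ := hsurj (L w)
      exact Submodule.mem_sup.2 ⟨Gm r, ⟨r, rfl⟩, w - Gm r,
        LinearMap.mem_ker.2 (by rw [map_sub, ← hr, LinearMap.comp_apply, sub_self]), by abel⟩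

/-- The characteristic polynomial on a string spanning everything. -/
theorem charpoly_string [FiniteDimensional K V] (h : T * A = a • (A * T)) {v : V} {μ : K}
    (hv : T v = μ • v) {s : ℕ} (hli : LinearIndependent K (fun i : Fin s => (A ^ (i : ℕ)) v))
    (hsp : Submodule.span K (Set.range fun i : Fin s => (A ^ (i : ℕ)) v) = ⊤) :
    T.charpoly = ∏ j ∈ Finset.range s, (X - C (a ^ j * μ)) := by
  classical
  rw [charpoly_of_eigenbasis (Basis.mk hli hsp.ge) (c := fun i => a ^ (i : ℕ) * μ)
    (fun i => by rw [Basis.mk_apply]; exact apply_string h hv i)]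
  exact Fin.prod_univ_eq_prod_range (fun j => X - C (a ^ j * μ)) s

/-- The product over `q` periods and `r` further terms. -/
theorem prod_shift {e : ℕ} (he : 0 < e) (ha : IsPrimitiveRoot a e) {μ : K} (hμ : μ ^ e = 1) (q r : ℕ) :
    ∏ j ∈ Finset.range (q * e + r), (X - C (a ^ j * μ)) =
      (X ^ e - 1) ^ q * ∏ j ∈ Finset.range r, (X - C (a ^ j * μ)) := by
  have hper : ∏ j ∈ Finset.range e, (X - C (a ^ j * μ)) = X ^ e - 1 := by
    rw [← X_pow_sub_C_eq_prod ha he hμ, map_one]
  induction q with
  | zero => simp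
  | succ q ih =>
    rw [show (q + 1) * e + r = e + (q * e + r) by ring, Finset.prod_range_add, hper]
    simp only [pow_add, ha.pow_eq_one, one_mul]
    rw [ih, pow_succ']
    ring

end Cfsg.Agent.UniqueDegree
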